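import Mathlib

/-!
Central extensions of an elementary abelian 2-group by another are determined by their squaring maps.
-/

set_option autoImplicit false

namespace Cfsg.Agent.Lib.SuzukiTwo

theorem nonempty_mulEquiv_of_squares {G H M V : Type*} [Group G] [Group H] [Finite G] [Finite H] [CommGroup M]
    [CommGroup V] (πG : G →* M) (πH : H →* M) (iG : V →* G) (iH : V →* H)
    (hsG : Function.Surjective πG) (hsH : Function.Surjective πH)
    (hiG : Function.Injective iG) (hiH : Function.Injective iH)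
    (hkG : ∀ g, πG g = 1 ↔ g ∈ iG.range) (hkH : ∀ h, πH h = 1 ↔ h ∈ iH.range)
    (hcG : ∀ v g, Commute (iG v) g) (hcH : ∀ v h, Commute (iH v) h)
    (Q : M → V) (hQG : ∀ g, g * g = iG (Q (πG g))) (hQH : ∀ h, h * h = iH (Q (πH h))) :
    Nonempty (G ≃* H) := by
  classical
  let D : Subgroup (G × H) := (πG.comp (MonoidHom.fst G H)).eqLocus (πH.comp (MonoidHom.snd G H))
  have hD : ∀ g h, (g, h) ∈ D ↔ πG g = πH h := fun g h => Iff.rfl
  let Δ : Subgroup (G × H) := (iG.prod iH).range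
  have hΔD : Δ ≤ D := by
    rintro _ ⟨v, rfl⟩
    rw [MonoidHom.prod_apply, hD, (hkG _).2 ⟨v, rfl⟩, (hkH _).2 ⟨v, rfl⟩]
  have hsq : ∀ d ∈ D, d * d ∈ Δ := by
    rintro ⟨g, h⟩ hd
    exact ⟨Q (πG g), Prod.ext (hQG g).symm ((congrArg (fun m => iH (Q m)) ((hD g h).1 hd)).trans (hQH h).symm)⟩
  let V₀ : Subgroup (G × H) := iG.range.prod ⊥
  obtain ⟨W, ⟨hΔW, hWD, hWV⟩, hWmax⟩ := (Set.toFinite {W : Subgroup (G × H) | Δ ≤ W ∧ W ≤ D ∧ W ⊓ V₀ = ⊥}).exists_maximal
    ⟨Δ, le_rfl, hΔD, (Subgroup.eq_bot_iff_forall _).2 fun d hd => by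
      obtain ⟨⟨v, rfl⟩, -, hv⟩ := hd
      have hv' : iH v = 1 := Subgroup.mem_bot.1 hv
      rw [(hiH (hv'.trans (map_one iH).symm) : v = 1), map_one]⟩
  have hV₀D : V₀ ≤ D := by
    rintro ⟨g, h⟩ ⟨hg, hh⟩
    obtain rfl : h = 1 := Subgroup.mem_bot.1 hh
    rw [hD, (hkG g).2 hg, map_one]
  -- products in `D` commute modulo `Δ`
  have hswap : ∀ d ∈ D, ∀ w ∈ W, d * w * d⁻¹ ∈ W := by
    intro d hd w hw
    have e : d * w * d⁻¹ = (d * w) * (d * w) * (w * w)⁻¹ * (w * (d * d)⁻¹ * w⁻¹) * w := by group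
    rw [e]
    refine W.mul_mem (W.mul_mem (W.mul_mem (hΔW (hsq _ (D.mul_mem hd (hWD hw))))
      (W.inv_mem (W.mul_mem hw hw))) (W.mul_mem (W.mul_mem hw (W.inv_mem (hΔW (hsq d hd)))) (W.inv_mem hw))) hw
  have hcover : ∀ d ∈ D, ∃ w ∈ W, ∃ v : V, d = w * (iG v, 1) := by
    intro d hd
    by_contra! hcon
    let W' : Subgroup (G × H) :=
      { carrier := {e | e ∈ W ∨ e * d⁻¹ ∈ W}
        one_mem' := Or.inl W.one_mem
        mul_mem' := by
          rintro a b (ha | ha) (hb | hb)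
          · exact Or.inl (W.mul_mem ha hb)
          · exact Or.inr (by rw [mul_assoc]; exact W.mul_mem ha hb)
          · refine Or.inr ?_
            rw [show a * b * d⁻¹ = a * d⁻¹ * (d * b * d⁻¹) by group]
            exact W.mul_mem ha (hswap d hd b hb)
          · refine Or.inl ?_
            rw [show a * b = a * d⁻¹ * (d * (b * d⁻¹) * d⁻¹) * (d * d) by group]
            exact W.mul_mem (W.mul_mem ha (hswap d hd _ hb)) (hΔW (hsq d hd))
        inv_mem' := by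
          rintro a (ha | ha)
          · exact Or.inl (W.inv_mem ha)
          · refine Or.inr ?_
            rw [show a⁻¹ * d⁻¹ = d⁻¹ * (a * d⁻¹)⁻¹ * (d⁻¹)⁻¹ * (d * d)⁻¹ by group]
            exact W.mul_mem (hswap _ (D.inv_mem hd) _ (W.inv_mem ha)) (W.inv_mem (hΔW (hsq d hd))) }
    have hdW : d ∈ W' := Or.inr (by rw [mul_inv_cancel]; exact W.one_mem)
    have hdW' : d ∈ W := by
      refine hWmax ⟨fun e he => Or.inl (hΔW he), ?_, ?_⟩ (fun e he => Or.inl he) hdW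
      · rintro e (he | he)
        · exact hWD he
        · simpa using D.mul_mem (hWD he) hd
      · refine (Subgroup.eq_bot_iff_forall _).2 ?_
        rintro e ⟨he | he, hev⟩
        · exact Subgroup.mem_bot.1 (hWV ▸ (⟨he, hev⟩ : e ∈ W ⊓ V₀))
        · obtain ⟨g, h⟩ := e
          obtain ⟨⟨v, rfl⟩, hh⟩ := hev
          obtain rfl : h = 1 := Subgroup.mem_bot.1 hh
          exact (hcon _ (W.inv_mem he) v (by group)).elim
    exact hcon d hdW' 1 (by rw [map_one, Prod.mk_one_one, mul_one])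
  let p₁ : W →* G := (MonoidHom.fst G H).comp W.subtype
  let p₂ : W →* H := (MonoidHom.snd G H).comp W.subtype
  have hinter : ∀ v : V, (iG v, (1 : H)) ∈ W → v = 1 := fun v hv => by
    have hm : (iG v, (1 : H)) ∈ W ⊓ V₀ := ⟨hv, ⟨v, rfl⟩, Subgroup.mem_bot.2 rfl⟩
    rw [hWV, Subgroup.mem_bot] at hm
    exact hiG ((congrArg Prod.fst hm).trans (map_one iG).symm)
  have h₁ : Function.Bijective p₁ := by
    refine ⟨(injective_iff_map_eq_one p₁).2 ?_, fun g => ?_⟩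
    · rintro ⟨⟨g, h⟩, hw⟩ (rfl : g = 1)
      obtain ⟨v, rfl⟩ := (hkH h).1 (by rw [← (hD 1 h).1 (hWD hw), map_one])
      have := hinter v (by simpa using W.mul_mem (W.inv_mem hw) (hΔW ⟨v, rfl⟩))
      exact Subtype.ext (by simp [this])
    · obtain ⟨h, hh⟩ := hsH (πG g)
      obtain ⟨w, hw, v, e⟩ := hcover (g, h) hh.symm
      exact ⟨⟨w * (iG v, iH v), W.mul_mem hw (hΔW ⟨v, rfl⟩)⟩, (congrArg Prod.fst e).symm⟩
  have h₂ : Function.Bijective p₂ := by
    refine ⟨(injective_iff_map_eq_one p₂).2 ?_, fun h => ?_⟩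
    · rintro ⟨⟨g, h⟩, hw⟩ (rfl : h = 1)
      obtain ⟨v, rfl⟩ := (hkG g).1 (by rw [(hD g 1).1 (hWD hw), map_one])
      exact Subtype.ext (by simp [hinter v hw])
    · obtain ⟨g, hg⟩ := hsG (πH h)
      obtain ⟨w, hw, v, e⟩ := hcover (g, h) hg
      refine ⟨⟨w, hw⟩, ?_⟩
      have h' := congrArg Prod.snd e
      simpa [p₂] using h'.symm
  exact ⟨(MulEquiv.ofBijective p₁ h₁).symm.trans (MulEquiv.ofBijective p₂ h₂)⟩

end Cfsg.Agent.Lib.SuzukiTwo
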