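import Cfsg.Agent.Lib.SuzukiTwo.Structure
import Cfsg.Agent.Lib.SuzukiTwo.Extension

/-!
Suzuki 2-groups of order `q ^ 2` are of type A.
-/

set_option autoImplicit false

namespace Cfsg.Agent.Lib.SuzukiTwo

open scoped commutatorElement

universe u v

/-! ### The model -/

section Model

variable {F : Type u} [Field F] [CharP F 2] (φ : F →+* F)

/-- The matrix of the element `(x, y)`. -/
def typeMatrix (x y : F) : Matrix (Fin 3) (Fin 3) F := !![1, 0, 0; x, 1, 0; y, φ x, 1]

omit [CharP F 2] in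
theorem typeMatrix_mul (x y x' y' : F) :
    typeMatrix φ x y * typeMatrix φ x' y' = typeMatrix φ (x + x') (y + y' + φ x * x') := by
  ext i j
  fin_cases i <;> fin_cases j <;>
    simp [typeMatrix, Matrix.mul_apply, Fin.sum_univ_three, map_add] <;> ring

omit [CharP F 2] in
theorem typeMatrix_one : typeMatrix φ 0 0 = 1 := by
  ext i j
  fin_cases i <;> fin_cases j <;> simp [typeMatrix]

/-- The element `(x, y)` of the general linear group. -/
def typeElement (x y : F) : GL (Fin 3) F where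
  val := typeMatrix φ x y
  inv := typeMatrix φ x (y + φ x * x)
  val_inv := by
    rw [typeMatrix_mul, CharTwo.add_self_eq_zero, show y + (y + φ x * x) + φ x * x = 0 by
      linear_combination (y + φ x * x) * (CharTwo.two_eq_zero (R := F)), typeMatrix_one]
  inv_val := by
    rw [typeMatrix_mul, CharTwo.add_self_eq_zero, show y + φ x * x + y + φ x * x = 0 by
      linear_combination (y + φ x * x) * (CharTwo.two_eq_zero (R := F)), typeMatrix_one]

theorem typeElement_mul (x y x' y' : F) :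
    typeElement φ x y * typeElement φ x' y' = typeElement φ (x + x') (y + y' + φ x * x') :=
  Units.ext (typeMatrix_mul φ x y x' y')

theorem typeElement_zero : typeElement φ 0 0 = 1 := Units.ext (typeMatrix_one φ)

theorem typeElement_inj {x y x' y' : F} (h : typeElement φ x y = typeElement φ x' y') : x = x' ∧ y = y' := by
  have h' : typeMatrix φ x y = typeMatrix φ x' y' := congrArg Units.val h
  exact ⟨by simpa [typeMatrix] using congrFun (congrFun h' 1) 0,
    by simpa [typeMatrix] using congrFun (congrFun h' 2) 0⟩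

theorem typeElement_mem (x y : F) : typeElement φ x y ∈ Cfsg.suzukiTypeA F φ :=
  Subgroup.subset_closure ⟨x, y, rfl⟩

theorem exists_of_mem {g : GL (Fin 3) F} (hg : g ∈ Cfsg.suzukiTypeA F φ) : ∃ x y, g = typeElement φ x y := by
  induction hg using Subgroup.closure_induction with
  | mem g hg =>
    obtain ⟨x, y, h⟩ := hg
    exact ⟨x, y, Units.ext h⟩
  | one => exact ⟨0, 0, (typeElement_zero φ).symm⟩
  | mul a b _ _ ha hb =>
    obtain ⟨x, y, rfl⟩ := ha
    obtain ⟨x', y', rfl⟩ := hb
    exact ⟨_, _, typeElement_mul φ x y x' y'⟩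
  | inv a _ ha =>
    obtain ⟨x, y, rfl⟩ := ha
    refine ⟨x, y + φ x * x, inv_eq_of_mul_eq_one_right ?_⟩
    rw [typeElement_mul, CharTwo.add_self_eq_zero, show y + (y + φ x * x) + φ x * x = 0 by
      linear_combination (y + φ x * x) * (CharTwo.two_eq_zero (R := F)), typeElement_zero]

/-- The first coordinate. -/
def typeProj : Cfsg.suzukiTypeA F φ →* Multiplicative F :=
  MonoidHom.mk' (fun g => Multiplicative.ofAdd (((g : GL (Fin 3) F) : Matrix (Fin 3) (Fin 3) F) 1 0)) fun a b => by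
    obtain ⟨x, y, ha⟩ := exists_of_mem φ a.2
    obtain ⟨x', y', hb⟩ := exists_of_mem φ b.2
    rw [Subgroup.coe_mul, ha, hb, typeElement_mul, ← ofAdd_add]
    rfl

/-- The second coordinate. -/
def typeIncl : Multiplicative F →* Cfsg.suzukiTypeA F φ :=
  MonoidHom.mk' (fun y => ⟨typeElement φ 0 y.toAdd, typeElement_mem φ 0 _⟩) fun a b => Subtype.ext (by
    show typeElement φ 0 (a * b).toAdd = typeElement φ 0 a.toAdd * typeElement φ 0 b.toAdd
    rw [typeElement_mul, add_zero, map_zero, zero_mul, add_zero, toAdd_mul])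

theorem typeProj_apply {g : Cfsg.suzukiTypeA F φ} {x y : F} (h : (g : GL (Fin 3) F) = typeElement φ x y) :
    typeProj φ g = Multiplicative.ofAdd x := by
  show Multiplicative.ofAdd (((g : GL (Fin 3) F) : Matrix (Fin 3) (Fin 3) F) 1 0) = _
  rw [h]
  rfl

end Model

theorem sum_even_add_odd {R : Type u} [AddCommMonoid R] (f : ℕ → R) : ∀ h : ℕ,
    ∑ j ∈ Finset.range h, f (2 * j) + ∑ j ∈ Finset.range h, f (2 * j + 1) = ∑ i ∈ Finset.range (2 * h), f i
  | 0 => by simp
  | h + 1 => by
    rw [Finset.sum_range_succ, Finset.sum_range_succ, show 2 * (h + 1) = 2 * h + 1 + 1 by ring,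
      Finset.sum_range_succ, Finset.sum_range_succ, ← sum_even_add_odd f h]
    abel

theorem exists_monomial {F : Type u} [Field F] [Finite F] [CharP F 2] (χ : F → F)
    (hbij : Function.Bijective χ) (hmul : ∀ x y, χ (x * y) = χ x * χ y)
    (hbi : ∀ x x' y, χ (x + x' + y) + χ (x + x') + χ y =
      (χ (x + y) + χ x + χ y) + (χ (x' + y) + χ x' + χ y))
    (hne : ∃ x y, χ (x + y) ≠ χ x + χ y) :
    ∃ σ φ : F ≃+* F, φ ≠ RingEquiv.refl F ∧ Odd (orderOf φ) ∧ ∀ x, χ x = σ x * φ (σ x) := by
  classical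
  let : Algebra (ZMod 2) F := ZMod.algebra F 2
  have : Fintype (F →ₐ[ZMod 2] F) := Fintype.ofFinite _
  let ψ : F → F → F := fun x y => χ (x + y) + χ x + χ y
  have hsym : ∀ x y, ψ x y = ψ y x := fun x y => by simp only [ψ, add_comm x y]; ring
  have hadd : ∀ x x' y, ψ (x + x') y = ψ x y + ψ x' y := hbi
  let L : F → F →+ F := fun y => AddMonoidHom.mk' (fun x => ψ x y) fun a b => hadd a b y
  choose a ha using fun y => exists_expansion 2 (L y)
  have haadd : ∀ y y' σ, a (y + y') σ = a y σ + a y' σ := fun y y' => congrFun (expansion_unique 2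
    (b := fun σ => a y σ + a y' σ) fun x => by
      simp only [← ha, add_mul, Finset.sum_add_distrib]
      show ψ x (y + y') = ψ x y + ψ x y'
      rw [hsym x (y + y'), hsym x y, hsym x y', hadd])
  choose b hb using fun σ => exists_expansion 2 (AddMonoidHom.mk' (fun y => a y σ) fun y y' => haadd y y' σ)
  have hb' : ∀ σ y, a y σ = ∑ τ, b σ τ * τ y := hb
  have hscale : ∀ z σ τ, b σ τ * (σ z * τ z) = χ z * b σ τ := by
    intro z σ τ
    have h1 : ∀ y, a (z * y) σ * σ z = χ z * a y σ := fun y => congrFun (expansion_unique 2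
      (a := fun σ => a (z * y) σ * σ z) (b := fun σ => χ z * a y σ) fun x => by
        simp only [mul_assoc, ← map_mul, ← Finset.mul_sum, ← ha]
        show ψ (z * x) (z * y) = χ z * ψ x y
        simp only [ψ, ← mul_add z, hmul]; ring) σ
    refine congrFun (expansion_unique 2 (a := fun τ => b σ τ * (σ z * τ z)) (b := fun τ => χ z * b σ τ) fun y => ?_) τ
    calc ∑ τ, b σ τ * (σ z * τ z) * τ y = (∑ τ, b σ τ * τ (z * y)) * σ z := by
          rw [Finset.sum_mul]; exact Finset.sum_congr rfl fun τ _ => by rw [map_mul]; ring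
      _ = χ z * ∑ τ, b σ τ * τ y := by rw [← hb', ← hb', h1]
      _ = ∑ τ, χ z * b σ τ * τ y := by rw [Finset.mul_sum]; exact Finset.sum_congr rfl fun τ _ => by ring
  obtain ⟨σ, τ, hστ⟩ : ∃ σ τ, b σ τ ≠ 0 := by
    by_contra! h
    obtain ⟨x, y, hxy⟩ := hne
    have h0 : ψ x y = 0 := by
      show L y x = 0
      simp [ha, hb', h]
    exact hxy (CharTwo.add_eq_zero.1 (by rw [← h0]; exact (add_assoc _ _ _).symm))
  have hχ : ∀ z, χ z = σ z * τ z := fun z =>
    (mul_left_cancel₀ hστ ((hscale z σ τ).trans (mul_comm _ _))).symm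
  let σe : F ≃+* F := RingEquiv.ofBijective σ (Finite.injective_iff_bijective.1 σ.toRingHom.injective)
  let τe : F ≃+* F := RingEquiv.ofBijective τ (Finite.injective_iff_bijective.1 τ.toRingHom.injective)
  let φ : F ≃+* F := σe.symm.trans τe
  have hφ : ∀ x, φ (σ x) = τ x := fun x => congrArg τ (σe.symm_apply_apply x)
  refine ⟨σe, φ, ?_, ?_, fun x => by show χ x = σ x * φ (σ x); rw [hφ, hχ]⟩
  · intro h
    obtain ⟨x, y, hxy⟩ := hne
    refine hxy ?_
    have hst : ∀ z, τ z = σ z := fun z => by rw [← hφ z, h]; rfl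
    simp only [hχ, hst, map_add, ← sq]
    exact CharTwo.add_sq _ _
  have : Finite (F ≃+* F) := Finite.of_injective (fun e : F ≃+* F => (e : F → F)) DFunLike.coe_injective
  rcases Nat.even_or_odd' (orderOf φ) with ⟨h, hh | hh⟩
  swap
  · exact ⟨h, hh⟩
  exfalso
  -- powers of `φ` below the order are independent
  let c : Fin (2 * h) → (F →* F) := fun i => ((φ ^ (i : ℕ) : F ≃+* F) : F →+* F).toMonoidHom
  have hc : Function.Injective c := fun i j e => by
    have e' : φ ^ (i : ℕ) = φ ^ (j : ℕ) := RingEquiv.ext fun x => DFunLike.congr_fun e x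
    exact Fin.ext (pow_injOn_Iio_orderOf (Set.mem_Iio.2 (by omega)) (Set.mem_Iio.2 (by omega)) e')
  have hpow : ∀ (i : ℕ) (x : F), φ ((φ ^ i) x) = (φ ^ (i + 1)) x := fun i x => by rw [pow_succ']; rfl
  have hh0 : 0 < h := by have := orderOf_pos φ; omega
  obtain ⟨w, hw⟩ : ∃ w, ∑ i : Fin (2 * h), c i w ≠ 0 := by
    by_contra! hcon
    have hli := Fintype.linearIndependent_iff.1 ((linearIndependent_monoidHom F F).comp c hc) (fun _ => 1)
      (funext fun w => by simpa [Finset.sum_apply] using hcon w) ⟨0, by omega⟩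
    exact one_ne_zero hli
  have hw' : ∑ i ∈ Finset.range (2 * h), (φ ^ i) w ≠ 0 := by
    rw [← Fin.sum_univ_eq_sum_range (fun i => (φ ^ i) w)]; exact hw
  set t := ∑ j ∈ Finset.range h, (φ ^ (2 * j)) w with ht
  have htt : t + φ t = ∑ i ∈ Finset.range (2 * h), (φ ^ i) w := by
    simp only [ht, map_sum, hpow]
    exact sum_even_add_odd (fun i => (φ ^ i) w) h
  have hne' : φ t ≠ t := fun e => hw' (by rw [← htt, e, CharTwo.add_self_eq_zero])
  have hfix : φ (φ t) = t := by
    have h1 : φ (φ t) = ∑ j ∈ Finset.range h, (φ ^ (2 * (j + 1))) w := by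
      simp only [ht, map_sum, hpow]
      exact Finset.sum_congr rfl fun j _ => by ring_nf
    rw [h1]
    have h2 := Finset.sum_range_succ (fun j => (φ ^ (2 * j)) w) h
    rw [Finset.sum_range_succ', ← hh, pow_orderOf_eq_one, mul_zero, pow_zero] at h2
    exact add_right_cancel h2
  have hφt : φ t ≠ 0 := fun e => hne' (by
    rw [e]; exact ((map_eq_zero φ).1 e).symm)
  obtain ⟨x, hx⟩ := σe.surjective (t / φ t)
  have ht0 : t ≠ 0 := fun e => hφt (by rw [e, map_zero])
  have h1 : χ x = χ 1 := by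
    rw [hχ, hχ, map_one, map_one, one_mul, ← hφ, show σ x = t / φ t from hx, map_div₀, hfix]
    field_simp
  have hx1 := hbij.1 h1
  rw [hx1, map_one, eq_comm, div_eq_one_iff_eq hφt] at hx
  exact hne' hx.symm

variable {K : Type u} [CommGroup K] {P : Type v} [Group P] [MulDistribMulAction K P]

namespace Data

variable [Finite P] (D : Data K P)
include D

set_option maxHeartbeats 800000 in
/-- A Suzuki 2-group of order `q ^ 2` is of type A. -/
theorem exists_typeA (hne : ∃ x y : P, x * y ≠ y * x) (hcard : Nat.card P = Nat.card (Omega P) ^ 2) :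
    ∃ (F : Type) (_ : Field F) (_ : Fintype F) (φ : F ≃+* F), Fintype.card F = Nat.card (Omega P) ∧
      φ ≠ RingEquiv.refl F ∧ Odd (orderOf φ) ∧ Nonempty (P ≃* Cfsg.suzukiTypeA F (φ : F →+* F)) := by
  classical
  have : Fact (Nat.Prime 2) := ⟨Nat.prime_two⟩
  have hsq := (D.higman hne).1
  have := D.omega_normal
  have := D.finite_group
  let act := quotAction (K := K) (Omega P) inv_omega
  let actV := subAction (K := K) (Omega P) inv_omega
  letI : CommGroup (P ⧸ Omega P) :=
    { (inferInstance : Group (P ⧸ Omega P)) with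
      mul_comm := fun a b => QuotientGroup.induction_on a fun a => QuotientGroup.induction_on b fun b =>
        commutatorElement_eq_one_iff_mul_comm.1 ((QuotientGroup.eq_one_iff ⁅a, b⁆).2 (D.commutator_mem hne a b)) }
  letI : CommGroup (Omega P) :=
    { (inferInstance : Group (Omega P)) with
      mul_comm := fun a b => Subtype.ext (Subgroup.mem_center_iff.1 b.2.1 a) }
  have hM2 : ∀ a : P ⧸ Omega P, a * a = 1 := fun a => QuotientGroup.induction_on a fun a =>
    (QuotientGroup.eq_one_iff (a * a)).2 (hsq a)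
  have hMcard : Nat.card (P ⧸ Omega P) = Nat.card (Omega P) := by
    have h := (Omega P).card_eq_card_quotient_mul_card_subgroup
    rw [hcard, sq] at h
    exact (Nat.eq_of_mul_eq_mul_right Nat.card_pos h).symm
  have h4 := D.four_le
  have : Nontrivial (P ⧸ Omega P) := Finite.one_lt_card_iff_nontrivial.1 (by omega)
  have : Nontrivial (Omega P) := Finite.one_lt_card_iff_nontrivial.1 (by omega)
  have hfree : ∀ (g : K) (a : P ⧸ Omega P), g • a = a → g = 1 ∨ a = 1 := by
    intro g a
    refine QuotientGroup.induction_on a fun a h => ?_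
    by_cases hg : g = 1
    · exact Or.inl hg
    refine Or.inr ((QuotientGroup.eq_one_iff a).2 (D.mem_of_inv_mul_smul_mem inv_omega hg ?_))
    exact (QuotientGroup.eq.1 h.symm : a⁻¹ * g • a ∈ Omega P)
  -- simple transitivity, by counting
  have hM : Regular K (P ⧸ Omega P) := by
    intro x y hx hy
    let f : Option K → P ⧸ Omega P := fun o => o.elim 1 fun g => g • x
    have hf : Function.Injective f := by
      rintro (_ | g) (_ | h) e
      · rfl
      · exact absurd (e : (1 : P ⧸ Omega P) = h • x).symm (smul_ne_one h hx)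
      · exact absurd (e : g • x = 1) (smul_ne_one g hx)
      · refine congrArg some ((inv_mul_eq_one.1 ((hfree (h⁻¹ * g) x ?_).resolve_right hx)).symm)
        rw [mul_smul, show g • x = h • x from e, inv_smul_smul]
    have hfb := hf.bijective_of_nat_card_le (by rw [hMcard, Finite.card_option, D.card_omega])
    obtain ⟨_ | g, hg⟩ := hfb.2 y
    · exact absurd hg.symm hy
    · exact ⟨g, hg, fun h hh => Option.some_inj.1 (hfb.1 ((hh : h • x = y).trans hg.symm))⟩
  obtain ⟨L₀, _, _, _, e₁, θ₁, hθ₁0, hθ₁, hθ₁m, he₁⟩ := exists_field hM hM2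
  obtain ⟨F₀, _, _, _, e₂, θ₂, hθ₂0, hθ₂, hθ₂m, he₂⟩ := exists_field D.regular_omega fun a => Subtype.ext a.2.2
  obtain ⟨n, hn2, hn⟩ := D.exists_pow
  have hΩn : Nat.card (Omega P) = 2 ^ n := D.card_omega.trans hn
  let F := GaloisField 2 n
  have := Fintype.ofFinite F
  have := Fintype.ofFinite L₀
  have := Fintype.ofFinite F₀
  have hFc : Nat.card F = 2 ^ n := GaloisField.card 2 n (by omega)
  let ρ₁ : L₀ ≃+* F := FiniteField.ringEquivOfCardEq (by
    rw [← Nat.card_eq_fintype_card, ← Nat.card_eq_fintype_card, hFc, ← hΩn, ← hMcard]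
    exact (Nat.card_congr (Additive.ofMul.trans e₁.toEquiv)).symm)
  let ρ₂ : F₀ ≃+* F := FiniteField.ringEquivOfCardEq (by
    rw [← Nat.card_eq_fintype_card, ← Nat.card_eq_fintype_card, hFc, ← hΩn]
    exact (Nat.card_congr (Additive.ofMul.trans e₂.toEquiv)).symm)
  let μ : Additive (P ⧸ Omega P) ≃+ F := e₁.trans ρ₁.toAddEquiv
  let ν : Additive (Omega P) ≃+ F := e₂.trans ρ₂.toAddEquiv
  let Q : P ⧸ Omega P → Omega P := Quotient.lift (fun a : P => (⟨a * a, hsq a⟩ : Omega P)) fun a b hab => by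
    obtain ⟨w, hw, rfl⟩ : ∃ w ∈ Omega P, a * w = b := ⟨a⁻¹ * b, QuotientGroup.leftRel_apply.1 hab, by group⟩
    apply Subtype.ext
    show a * a = a * w * (a * w)
    rw [D.sq_mul hne, hw.2, mul_one, central_commutator hw.1, mul_one]
  have hQe : ∀ (g : K) a, Q (g • a) = g • Q a := fun g a => QuotientGroup.induction_on a fun a =>
    Subtype.ext (smul_mul' g a a).symm
  have hQ0 : ∀ a, Q a = 1 → a = 1 := fun a => QuotientGroup.induction_on a fun a h =>
    (QuotientGroup.eq_one_iff a).2 (D.mem_omega_iff.2 (congrArg Subtype.val h))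
  let G : F → F := fun x => ν (Additive.ofMul (Q (μ.symm x).toMul))
  have hG : ∀ m, G (μ (Additive.ofMul m)) = ν (Additive.ofMul (Q m)) := fun m => by
    simp only [G, AddEquiv.symm_apply_apply, toMul_ofMul]
  have hG0 : G 0 = 0 := by
    have h := hG 1
    rw [ofMul_one, map_zero, show Q 1 = 1 from Subtype.ext (one_mul 1), ofMul_one, map_zero] at h
    exact h
  have hκ : G 1 ≠ 0 := fun h => one_ne_zero (α := F) (by
    obtain ⟨m, hm⟩ := μ.surjective 1
    obtain ⟨m, rfl⟩ := Additive.ofMul.surjective m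
    rw [← hm, hG, ν.map_eq_zero_iff, ofMul_eq_zero] at h
    rw [← hm, hQ0 _ h, ofMul_one, map_zero])
  have hsc : ∀ g x, G (ρ₁ (θ₁ g) * x) = ρ₂ (θ₂ g) * G x := by
    intro g x
    obtain ⟨m, rfl⟩ := μ.surjective x
    obtain ⟨m, rfl⟩ := Additive.ofMul.surjective m
    have h1 : ρ₁ (θ₁ g) * μ (Additive.ofMul m) = μ (Additive.ofMul (g • m)) := by
      show ρ₁ (θ₁ g) * ρ₁ (e₁ _) = ρ₁ (e₁ _)
      rw [← map_mul, he₁]
    have h2 : ρ₂ (θ₂ g) * ν (Additive.ofMul (Q m)) = ν (Additive.ofMul (g • Q m)) := by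
      show ρ₂ (θ₂ g) * ρ₂ (e₂ _) = ρ₂ (e₂ _)
      rw [← map_mul, he₂]
    rw [h1, hG, hG, h2, hQe]
  let χ : F → F := fun x => G x / G 1
  have hθ : ∀ x : F, x ≠ 0 → ∃ g, ρ₁ (θ₁ g) = x := fun x hx => by
    obtain ⟨g, hg, -⟩ := hθ₁ (ρ₁.symm x) fun h => hx (by rw [← ρ₁.apply_symm_apply x, h, map_zero])
    exact ⟨g, by rw [hg, RingEquiv.apply_symm_apply]⟩
  have hmul : ∀ x y, χ (x * y) = χ x * χ y := by
    intro x y
    rcases eq_or_ne x 0 with rfl | hx
    · simp [χ, hG0]
    obtain ⟨g, rfl⟩ := hθ x hx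
    have h := hsc g 1
    rw [mul_one] at h
    simp only [χ, hsc, h]
    rw [mul_div_assoc, mul_div_assoc, div_self hκ, mul_one]
  have hbij : Function.Bijective χ := by
    refine Finite.injective_iff_bijective.1 fun x y e => ?_
    have key : ∀ z, χ z = 0 → z = 0 := fun z hz => by
      by_contra hz0
      obtain ⟨g, rfl⟩ := hθ z hz0
      have h := hsc g 1
      rw [mul_one] at h
      simp only [χ, h, mul_div_assoc, div_self hκ, mul_one, map_eq_zero] at hz
      exact hθ₂0 g hz
    rcases eq_or_ne y 0 with rfl | hy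
    · exact key x (e.trans (show χ 0 = 0 by simp [χ, hG0]))
    have hone : ∀ z, χ z = 1 → z = 1 := fun z hz => by
      have hz0 : z ≠ 0 := fun h => by simp [h, χ, hG0] at hz
      obtain ⟨g, rfl⟩ := hθ z hz0
      have h := hsc g 1
      rw [mul_one] at h
      simp only [χ, h, mul_div_assoc, div_self hκ, mul_one] at hz
      have hg : g = 1 := (hθ₂ _ (hθ₂0 g)).unique rfl (by
        rw [(ρ₂.injective (hz.trans (map_one ρ₂).symm))]
        have h11 := hθ₂m 1 1
        rw [mul_one] at h11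
        exact (mul_left_cancel₀ (hθ₂0 1) (h11.symm.trans (mul_one _).symm)))
      rw [hg]
      have h11 := hθ₁m 1 1
      rw [mul_one] at h11
      rw [mul_left_cancel₀ (hθ₁0 1) (h11.symm.trans (mul_one _).symm), map_one]
    have h1 : χ (x / y) = 1 := by
      have h := hmul (x / y) y
      rw [div_mul_cancel₀ _ hy, e] at h
      exact (mul_right_cancel₀ (fun h0 => hy (key y h0)) ((one_mul _).trans h)).symm
    exact (div_eq_one_iff_eq hy).1 (hone _ h1)
  -- the polar form
  let cm : P → P → F := fun a b => ν (Additive.ofMul (⟨⁅b, a⁆, D.commutator_mem hne b a⟩ : Omega P))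
  have hpol : ∀ a b : P, G (μ (Additive.ofMul ((a : P ⧸ Omega P) * b))) =
      G (μ (Additive.ofMul (a : P ⧸ Omega P))) + G (μ (Additive.ofMul (b : P ⧸ Omega P))) + cm a b := by
    intro a b
    have h : Q ((a : P ⧸ Omega P) * b) = Q (a : P ⧸ Omega P) * Q (b : P ⧸ Omega P) *
        ⟨⁅b, a⁆, D.commutator_mem hne b a⟩ := Subtype.ext (D.sq_mul hne a b)
    rw [hG, hG, hG, h]
    simp only [cm, ofMul_mul, map_add]
  have hcm : ∀ a a' b, cm (a * a') b = cm a b + cm a' b := by
    intro a a' b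
    have h : (⟨⁅b, a * a'⁆, D.commutator_mem hne b _⟩ : Omega P) =
        ⟨⁅b, a⁆, D.commutator_mem hne b a⟩ * ⟨⁅b, a'⁆, D.commutator_mem hne b a'⟩ := Subtype.ext (by
      show ⁅b, a * a'⁆ = ⁅b, a⁆ * ⁅b, a'⁆
      rw [show ⁅b, a * a'⁆ = ⁅b, a⁆ * (a * ⁅b, a'⁆ * a⁻¹) by simp only [commutatorElement_def]; group,
        Subgroup.mem_center_iff.1 (D.commutator_mem hne b a').1 a, mul_inv_cancel_right])
    simp only [cm, h, ofMul_mul, map_add]
  have hlift : ∀ x : F, ∃ a : P, μ (Additive.ofMul (a : P ⧸ Omega P)) = x := fun x => by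
    obtain ⟨a, ha⟩ := QuotientGroup.mk'_surjective (Omega P) (μ.symm x).toMul
    exact ⟨a, by rw [← QuotientGroup.mk'_apply, ha, ofMul_toMul, AddEquiv.apply_symm_apply]⟩
  have hsum : ∀ a b : P, μ (Additive.ofMul (a : P ⧸ Omega P)) + μ (Additive.ofMul (b : P ⧸ Omega P)) =
      μ (Additive.ofMul ((a : P ⧸ Omega P) * b)) := fun a b => by rw [ofMul_mul, map_add]
  have hbi : ∀ x x' y, χ (x + x' + y) + χ (x + x') + χ y =
      (χ (x + y) + χ x + χ y) + (χ (x' + y) + χ x' + χ y) := by
    intro x x' y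
    obtain ⟨a, rfl⟩ := hlift x
    obtain ⟨a', rfl⟩ := hlift x'
    obtain ⟨b, rfl⟩ := hlift y
    simp only [χ, ← add_div, hsum, ← QuotientGroup.mk_mul]
    congr 1
    simp only [QuotientGroup.mk_mul]
    rw [hpol a a', hpol a b, hpol a' b, ← QuotientGroup.mk_mul _ a a', hpol (a * a') b, QuotientGroup.mk_mul, hpol a a',
      hcm]
    linear_combination (cm a a' - G (μ (Additive.ofMul (b : P ⧸ Omega P)))) * (CharTwo.two_eq_zero (R := F))
  have hnadd : ∃ x y, χ (x + y) ≠ χ x + χ y := by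
    obtain ⟨a, b, hab⟩ := hne
    refine ⟨μ (Additive.ofMul (a : P ⧸ Omega P)), μ (Additive.ofMul (b : P ⧸ Omega P)), fun e => hab ?_⟩
    simp only [χ, ← add_div, hsum, div_left_inj' hκ, hpol, add_eq_left, cm, ν.map_eq_zero_iff, ofMul_eq_zero] at e
    exact (commutatorElement_eq_one_iff_mul_comm.1 (congrArg Subtype.val e)).symm
  obtain ⟨σ, φ, hφ1, hφodd, hχ⟩ := exists_monomial χ hbij hmul hbi hnadd
  refine ⟨F, inferInstance, inferInstance, φ, by rw [← Nat.card_eq_fintype_card, hFc, hΩn], hφ1, hφodd, ?_⟩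
  -- compare the extensions
  let μ' : (P ⧸ Omega P) ≃* Multiplicative F :=
    { toFun := fun m => Multiplicative.ofAdd (σ (μ (Additive.ofMul m)))
      invFun := fun x => (μ.symm (σ.symm x.toAdd)).toMul
      left_inv := fun m => by simp
      right_inv := fun x => by simp
      map_mul' := fun a b => by simp [ofMul_mul, ofAdd_add] }
  let ν' : Omega P ≃* Multiplicative F :=
    { toFun := fun m => Multiplicative.ofAdd (ν (Additive.ofMul m) / G 1)
      invFun := fun x => (ν.symm (x.toAdd * G 1)).toMul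
      left_inv := fun m => by simp [div_mul_cancel₀ _ hκ]
      right_inv := fun x => by simp [mul_div_cancel_right₀ _ hκ]
      map_mul' := fun a b => by simp [ofMul_mul, ofAdd_add, add_div] }
  refine nonempty_mulEquiv_of_squares (μ'.toMonoidHom.comp (QuotientGroup.mk' (Omega P))) (typeProj (φ : F →+* F))
    ((Omega P).subtype.comp ν'.symm.toMonoidHom) (typeIncl (φ : F →+* F))
    (μ'.surjective.comp (QuotientGroup.mk'_surjective _)) (fun x => ⟨⟨_, typeElement_mem _ x.toAdd 0⟩, typeProj_apply _ rfl⟩)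
    ((Omega P).subtype_injective.comp ν'.symm.injective) (fun a b e => ?_) (fun g => ?_) (fun h => ?_)
    (fun v g => (Subgroup.mem_center_iff.1 (ν'.symm v).2.1 g).symm) (fun v h => ?_)
    (fun m => Multiplicative.ofAdd ((φ : F →+* F) m.toAdd * m.toAdd)) (fun g => ?_) (fun h => ?_)
  · exact Multiplicative.toAdd.injective (typeElement_inj _ (congrArg Subtype.val e)).2
  · simp only [MonoidHom.coe_comp, Function.comp_apply, MulEquiv.coe_toMonoidHom, EmbeddingLike.map_eq_one_iff,
      QuotientGroup.mk'_apply, QuotientGroup.eq_one_iff]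
    refine ⟨fun hg => ⟨ν' ⟨g, hg⟩, by simp⟩, ?_⟩
    rintro ⟨v, rfl⟩
    exact (ν'.symm v).2
  · obtain ⟨x, y, hh⟩ := exists_of_mem _ h.2
    rw [typeProj_apply _ hh, ofAdd_eq_one]
    refine ⟨fun hx => ⟨Multiplicative.ofAdd y, Subtype.ext (by rw [hh, hx]; rfl)⟩, ?_⟩
    rintro ⟨v, hv⟩
    exact (typeElement_inj _ ((congrArg Subtype.val hv).trans hh)).1.symm
  · obtain ⟨x, y, hh⟩ := exists_of_mem _ h.2
    refine Subtype.ext ?_
    show typeElement _ 0 v.toAdd * (h : GL (Fin 3) F) = (h : GL (Fin 3) F) * typeElement _ 0 v.toAdd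
    rw [hh, typeElement_mul, typeElement_mul]
    congr 1
    · rw [add_comm]
    · simp [add_comm]
  · show g * g = ((ν'.symm _ : Omega P) : P)
    have key : (⟨g * g, hsq g⟩ : Omega P) = ν'.symm (Multiplicative.ofAdd
        ((φ : F →+* F) (σ (μ (Additive.ofMul (g : P ⧸ Omega P)))) * σ (μ (Additive.ofMul (g : P ⧸ Omega P))))) := by
      rw [MulEquiv.eq_symm_apply]
      show Multiplicative.ofAdd (ν (Additive.ofMul (⟨g * g, hsq g⟩ : Omega P)) / G 1) = _
      congr 1
      rw [show (⟨g * g, hsq g⟩ : Omega P) = Q (g : P ⧸ Omega P) from rfl, ← hG, mul_comm]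
      exact hχ _
    exact congrArg Subtype.val key
  · obtain ⟨x, y, hh⟩ := exists_of_mem _ h.2
    refine Subtype.ext ?_
    show (h : GL (Fin 3) F) * h = typeElement _ 0 ((φ : F →+* F) (typeProj _ h).toAdd * (typeProj _ h).toAdd)
    rw [typeProj_apply _ hh, toAdd_ofAdd, hh, typeElement_mul, CharTwo.add_self_eq_zero, CharTwo.add_self_eq_zero,
      zero_add]

end Data

end Cfsg.Agent.Lib.SuzukiTwo
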