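import Mathlib

/-!
Functions of bounded degree on an elementary abelian 2-group with values in `ZMod 2`, after Chevalley and Warning.
-/

set_option autoImplicit false

namespace Cfsg.Agent.Lib.SuzukiTwo

universe u

/-- The degree of a function is at most `d`. -/
def HasDegree {M : Type u} [Monoid M] : ℕ → (M → ZMod 2) → Prop
  | 0, f => ∀ x, f x = f 1
  | d + 1, f => ∀ a, HasDegree d fun x => f (x * a) + f x

variable {M : Type u} [CommGroup M]

theorem HasDegree.const : ∀ (d : ℕ) (c : ZMod 2), HasDegree d fun _ : M => c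
  | 0, _ => fun _ => rfl
  | d + 1, c => fun _ => HasDegree.const d (c + c)

theorem HasDegree.add : ∀ {d : ℕ} {f g : M → ZMod 2}, HasDegree d f → HasDegree d g →
    HasDegree d fun x => f x + g x
  | 0, _, _, hf, hg => fun x => congrArg₂ (· + ·) (hf x) (hg x)
  | d + 1, f, g, hf, hg => fun a => by
    have h := (hf a).add (hg a)
    simpa only [add_add_add_comm] using h

theorem HasDegree.translate : ∀ {d : ℕ} {f : M → ZMod 2}, HasDegree d f → ∀ b, HasDegree d fun x => f (x * b)
  | 0, _, hf, b => fun x => (hf (x * b)).trans (hf (1 * b)).symm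
  | d + 1, f, hf, b => fun a => by
    have h := (hf a).translate b
    simpa only [mul_right_comm _ a b] using h

theorem HasDegree.comp {N : Type u} [CommGroup N] (φ : N →* M) :
    ∀ {d : ℕ} {f : M → ZMod 2}, HasDegree d f → HasDegree d (f ∘ φ)
  | 0, f, hf => fun x => (hf (φ x)).trans (by simp)
  | d + 1, f, hf => fun a => by
    have h := (hf (φ a)).comp φ
    simpa only [Function.comp_def, map_mul] using h

theorem HasDegree.const_mul : ∀ {d : ℕ} {f : M → ZMod 2}, HasDegree d f → ∀ c, HasDegree d fun x => c * f x
  | 0, _, hf, c => fun x => congrArg (c * ·) (hf x)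
  | d + 1, f, hf, c => fun a => by
    have h := (hf a).const_mul c
    simpa only [mul_add] using h

theorem HasDegree.mul : ∀ {d e : ℕ} {f g : M → ZMod 2}, HasDegree d f → HasDegree e g →
    HasDegree (d + e) fun x => f x * g x
  | 0, e, f, g, hf, hg => by
    rw [zero_add, show (fun x => f x * g x) = fun x => f 1 * g x from funext fun x => by rw [hf x]]
    exact hg.const_mul _
  | d + 1, 0, f, g, hf, hg => by
    rw [add_zero, show (fun x => f x * g x) = fun x => g 1 * f x from funext fun x => by rw [hg x, mul_comm]]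
    exact hf.const_mul _
  | d + 1, e + 1, f, g, hf, hg => fun a => by
    have h1 : HasDegree (d + (e + 1)) fun x => (f (x * a) + f x) * g x := (hf a).mul hg
    have h2 : HasDegree (d + 1 + e) fun x => f (x * a) * (g (x * a) + g x) := (hf.translate a).mul (hg a)
    rw [show d + (e + 1) = d + 1 + e by omega] at h1
    have h := h1.add h2
    have e' : (fun x => (f (x * a) + f x) * g x + f (x * a) * (g (x * a) + g x)) =
        fun x => f (x * a) * g (x * a) + f x * g x := funext fun x => by
      linear_combination CharTwo.add_self_eq_zero (f (x * a) * g x)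
    rw [e'] at h
    exact h
  termination_by d e => (d, e)

theorem HasDegree.prod {ι : Type} (s : Finset ι) (d : ℕ) (f : ι → M → ZMod 2)
    (hf : ∀ i ∈ s, HasDegree d (f i)) : HasDegree (s.card * d) fun x => ∏ i ∈ s, f i x := by
  classical
  induction s using Finset.induction_on with
  | empty => simpa using HasDegree.const (M := M) 0 1
  | @insert i s hi ih =>
    have h := (hf i (Finset.mem_insert_self i s)).mul (ih fun j hj => hf j (Finset.mem_insert_of_mem hj))
    simpa [Finset.card_insert_of_notMem hi, Finset.prod_insert hi, add_mul, add_comm] using h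

/-- A function whose degree is smaller than the rank sums to zero. -/
theorem HasDegree.sum_eq_zero : ∀ {d : ℕ} {M : Type u} [CommGroup M] [Fintype M] {f : M → ZMod 2} {m : ℕ},
    (∀ x : M, x * x = 1) → Nat.card M = 2 ^ m → d < m → HasDegree d f → ∑ x, f x = 0
  | 0, M, _, _, f, m, _, hM, hm, hf => by
    rw [Finset.sum_congr rfl fun x _ => hf x, Finset.sum_const, Finset.card_univ, ← Nat.card_eq_fintype_card, hM,
      nsmul_eq_mul, Nat.cast_pow, show ((2 : ℕ) : ZMod 2) = 0 from rfl, zero_pow (by omega), zero_mul]
  | d + 1, M, _, _, f, m, h2, hM, hm, hf => by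
    classical
    have : Fact (Nat.Prime 2) := ⟨Nat.prime_two⟩
    obtain ⟨H, hH⟩ := Sylow.exists_subgroup_card_pow_prime (G := M) 2 (n := m - 1)
      (hM ▸ pow_dvd_pow 2 (Nat.sub_le _ _))
    have hidx : H.index = 2 := by
      have h := H.card_mul_index
      rw [hH, hM, show 2 ^ m = 2 ^ (m - 1) * 2 by rw [← pow_succ, Nat.sub_add_cancel (by omega)]] at h
      exact Nat.eq_of_mul_eq_mul_left (by positivity) h
    obtain ⟨a, ha⟩ := Subgroup.index_eq_two_iff.1 hidx
    have key := (hf a).comp H.subtype
    have hsum := key.sum_eq_zero (fun x => Subtype.ext (h2 x)) hH (by omega)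
    simp only [Function.comp_def, Subgroup.coe_subtype, Finset.sum_add_distrib] at hsum
    rw [← Finset.sum_filter_add_sum_filter_not Finset.univ (· ∈ H)]
    have e1 : ∑ x ∈ Finset.univ.filter (· ∈ H), f x = ∑ h : H, f h :=
      Finset.sum_subtype _ (fun x => by simp) f
    have e2 : ∑ x ∈ Finset.univ.filter (fun x => ¬ x ∈ H), f x = ∑ h : H, f (h * a) := by
      refine Finset.sum_bij' (fun x hx => (⟨x * a, ?_⟩ : H)) (fun h _ => (h : M) * a) ?_ ?_ ?_ ?_ ?_
      · rcases ha x with ⟨h, -⟩ | ⟨h, -⟩
        · exact h
        · exact absurd h (Finset.mem_filter.1 hx).2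
      · exact fun x hx => Finset.mem_univ _
      · intro h _
        refine Finset.mem_filter.2 ⟨Finset.mem_univ _, fun h' => ?_⟩
        rcases ha h with ⟨-, h1⟩ | ⟨-, h1⟩
        · exact h1 h.2
        · exact h1 h'
      · intro x _; show x * a * a = x; rw [mul_assoc, h2, mul_one]
      · intro h _; exact Subtype.ext (show (h : M) * a * a = h by rw [mul_assoc, h2, mul_one])
      · intro x _; show f x = f (x * a * a); rw [mul_assoc, h2, mul_one]
    rw [e1, e2, add_comm]
    exact hsum

end Cfsg.Agent.Lib.SuzukiTwo
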