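import Mathlib

/-!
Biadditive maps on finite fields of characteristic two which are semi-equivariant for the
multiplicative group have no zero divisors unless they vanish.
-/

set_option autoImplicit false

namespace Cfsg.Agent.Lib.SuzukiTwo

section Expansion

variable (p : ℕ) [Fact p.Prime] {F : Type*} [Field F] [Finite F] [Algebra (ZMod p) F]

theorem card_algHom_self : Nat.card (F →ₐ[ZMod p] F) = Module.finrank (ZMod p) F := by
  rw [← IsGalois.card_aut_eq_finrank (ZMod p) F]
  exact Nat.card_congr (algEquivEquivAlgHom (ZMod p) F).toEquiv.symm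

/-- Additive endomorphisms of a finite field are combinations of field endomorphisms. -/
theorem exists_expansion [Fintype (F →ₐ[ZMod p] F)] (f : F →+ F) :
    ∃ a : (F →ₐ[ZMod p] F) → F, ∀ x, f x = ∑ σ, a σ * σ x := by
  have hli := linearIndependent_toLinearMap (ZMod p) F F
  have hcard : Fintype.card (F →ₐ[ZMod p] F) = Module.finrank F (F →ₗ[ZMod p] F) := by
    rw [Module.finrank_linearMap_self, ← card_algHom_self p, Nat.card_eq_fintype_card]
  have hspan := hli.span_eq_top_of_card_eq_finrank hcard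
  obtain ⟨a, ha⟩ := (Submodule.mem_span_range_iff_exists_fun F).1
    (hspan ▸ Submodule.mem_top (x := f.toZModLinearMap p))
  refine ⟨a, fun x => ?_⟩
  have := LinearMap.congr_fun ha x
  simp only [LinearMap.sum_apply, LinearMap.smul_apply, smul_eq_mul, AlgHom.toLinearMap_apply] at this
  exact this.symm

theorem expansion_unique [Fintype (F →ₐ[ZMod p] F)] {a b : (F →ₐ[ZMod p] F) → F}
    (h : ∀ x, ∑ σ, a σ * σ x = ∑ σ, b σ * σ x) : a = b := by
  have hli := linearIndependent_toLinearMap (ZMod p) F F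
  have h0 : ∑ σ, (a σ - b σ) • σ.toLinearMap = 0 := LinearMap.ext fun x => by
    simp only [LinearMap.sum_apply, LinearMap.smul_apply, smul_eq_mul, AlgHom.toLinearMap_apply,
      LinearMap.zero_apply, sub_mul, Finset.sum_sub_distrib, h x, sub_self]
  exact funext fun σ => sub_eq_zero.1 (Fintype.linearIndependent_iff.1 hli _ h0 σ)

end Expansion

variable {L F : Type*} [Field L] [Finite L] [Field F] [Finite F] [CharP F 2]

/-- The no zero divisor lemma. -/
theorem biadditive_no_zero_divisors (hF : 4 ≤ Nat.card F) (φ : F → L) (hφ : Function.Bijective φ)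
    (hφm : ∀ a b, φ (a * b) = φ a * φ b) (B : L →+ F →+ F)
    (hB : ∀ l x v, l ≠ 0 → B (φ l * x) (l * v) = l * B x v) {x₀ : L} {v₀ : F} (hx₀ : x₀ ≠ 0) (hv₀ : v₀ ≠ 0)
    (h₀ : B x₀ v₀ = 0) : B = 0 := by
  classical
  let : Algebra (ZMod 2) F := ZMod.algebra F 2
  have : Fintype (F →ₐ[ZMod 2] F) := Fintype.ofFinite _
  have hcard : Nat.card L = Nat.card F := (Nat.card_congr (Equiv.ofBijective φ hφ)).symm
  have hφ0 : φ 0 = 0 := by
    obtain ⟨a, ha⟩ := hφ.2 0
    have h := hφm 0 a
    rwa [zero_mul, ha, mul_zero] at h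
  have hφne : ∀ l, φ l ≠ 0 ↔ l ≠ 0 := fun l => not_congr ⟨fun h => hφ.1 (h.trans hφ0.symm), fun h => h ▸ hφ0⟩
  have hL1 : φ 1 = 1 := by
    have h := hφm 1 1
    rw [mul_one] at h
    exact mul_left_cancel₀ ((hφne 1).2 one_ne_zero) (h.symm.trans (mul_one _).symm)
  choose a ha using fun x => exists_expansion 2 (B x)
  have haadd : ∀ x y σ, a (x + y) σ = a x σ + a y σ := fun x y => congrFun (expansion_unique 2
    (b := fun σ => a x σ + a y σ) fun v => by
      simp only [← ha, add_mul, Finset.sum_add_distrib, map_add, AddMonoidHom.add_apply])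
  have haeq : ∀ l x σ, l ≠ 0 → a (φ l * x) σ * σ l = l * a x σ := fun l x σ hl =>
    congrFun (expansion_unique 2 (a := fun σ => a (φ l * x) σ * σ l) (b := fun σ => l * a x σ) fun v => by
      simp only [mul_assoc, ← map_mul, ← Finset.mul_sum, ← ha, hB l x v hl]) σ
  have hex : ∃ x y : L, x ≠ 0 ∧ y ≠ 0 ∧ x + y ≠ 0 := by
    have hlt : ({0, -1} : Set L) ≠ Set.univ := fun h => by
      have h1 := Set.ncard_univ L
      have h2 : ({0, -1} : Set L).ncard ≤ 2 := by
        have h3 := Set.ncard_insert_le (0 : L) {-1}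
        rw [Set.ncard_singleton] at h3
        exact h3
      rw [← h, hcard] at h1
      omega
    obtain ⟨y, hy⟩ := (Set.ne_univ_iff_exists_notMem _).1 hlt
    simp only [Set.mem_insert_iff, Set.mem_singleton_iff, not_or] at hy
    exact ⟨1, y, one_ne_zero, hy.1, fun h => hy.2 (eq_neg_of_add_eq_zero_right h)⟩
  have hid : ∀ x, a x (AlgHom.id _ _) = 0 := by
    have hconst : ∀ x : L, x ≠ 0 → a x (AlgHom.id _ _) = a 1 (AlgHom.id _ _) := by
      intro x hx
      obtain ⟨l, rfl⟩ := hφ.2 x
      have h := haeq l 1 (AlgHom.id _ _) ((hφne l).1 hx)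
      rw [mul_one, AlgHom.id_apply, mul_comm l] at h
      exact mul_right_cancel₀ ((hφne l).1 hx) h
    obtain ⟨x, y, hx, hy, hxy⟩ := hex
    have h := haadd x y (AlgHom.id _ _)
    rw [hconst _ hx, hconst _ hy, hconst _ hxy, CharTwo.add_self_eq_zero] at h
    intro z
    rcases eq_or_ne z 0 with rfl | hz
    · simpa using haadd 0 0 (AlgHom.id _ _)
    · rw [hconst z hz, h]
  -- the twist belonging to a nonzero coefficient
  have hchi : ∀ σ, a 1 σ ≠ 0 → ∃ χ : L →+* F, Function.Bijective χ ∧ (∀ x, a x σ = a 1 σ * χ x) ∧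
      ∀ l, l ≠ 0 → χ (φ l) * σ l = l := by
    intro σ hσ
    let c : L → F := fun x => a x σ / a 1 σ
    have hc : ∀ l, l ≠ 0 → c (φ l) * σ l = l := fun l hl => by
      have h := haeq l 1 σ hl
      rw [mul_one] at h
      simp only [c, div_mul_eq_mul_div, h, mul_div_assoc, div_self hσ, mul_one]
    have hc0 : c 0 = 0 := by
      have h := haadd 0 0 σ
      rw [add_zero, left_eq_add] at h
      simp [c, h]
    have hcmul : ∀ x y, c (x * y) = c x * c y := by
      intro x y
      rcases eq_or_ne x 0 with rfl | hx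
      · rw [zero_mul, hc0, zero_mul]
      obtain ⟨l, rfl⟩ := hφ.2 x
      have hl := (hφne l).1 hx
      have hsl : σ l ≠ 0 := (map_ne_zero σ).2 hl
      apply mul_right_cancel₀ hsl
      rw [mul_right_comm (c (φ l)), hc l hl]
      simp only [c, div_mul_eq_mul_div, haeq l y σ hl, mul_div_assoc]
    let χ : L →+* F :=
      { toFun := c
        map_one' := div_self hσ
        map_mul' := hcmul
        map_zero' := hc0
        map_add' := fun x y => by simp only [c, haadd, add_div] }
    refine ⟨χ, χ.injective.bijective_of_nat_card_le hcard.ge, fun x => ?_, hc⟩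
    show a x σ = a 1 σ * (a x σ / a 1 σ)
    rw [mul_div_cancel₀ _ hσ]
  have huniq : ∀ σ σ', a 1 σ ≠ 0 → a 1 σ' ≠ 0 → σ = σ' := by
    intro σ σ' h h'
    obtain ⟨χ, hχb, -, hc⟩ := hchi σ h
    obtain ⟨χ', -, -, hc'⟩ := hchi σ' h'
    have hσ' : σ' ≠ AlgHom.id _ _ := fun e => h' (e ▸ hid 1)
    let ψr : F →+* F := χ'.comp (RingEquiv.ofBijective χ hχb).symm.toRingHom
    let ψ : F →ₐ[ZMod 2] F :=
      { ψr with
        commutes' := fun r => DFunLike.congr_fun
          (RingHom.ext_zmod (ψr.comp (algebraMap (ZMod 2) F)) (algebraMap (ZMod 2) F)) r }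
    have hψ : ∀ x : L, ψ (χ x) = χ' x := fun x => congrArg χ' ((RingEquiv.ofBijective χ hχb).symm_apply_apply x)
    have key : ∀ l, l * ψ (σ l) = ψ l * σ' l := by
      intro l
      rcases eq_or_ne l 0 with rfl | hl
      · simp
      have h1 := congrArg ψ (hc l hl)
      rw [map_mul, hψ] at h1
      calc l * ψ (σ l) = χ' (φ l) * σ' l * ψ (σ l) := by rw [hc' l hl]
        _ = χ' (φ l) * ψ (σ l) * σ' l := by ring
        _ = ψ l * σ' l := by rw [h1]
    by_cases hψσ : ψ.comp σ = AlgHom.id _ _
    · exfalso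
      have hadd : ∀ l, ψ l = σ' l := fun l => by
        have h1 := key (l + 1)
        rw [map_add σ, map_add ψ, map_add ψ, map_add σ', map_one σ, map_one ψ, map_one σ'] at h1
        have h2 : ψ (σ l) = l := DFunLike.congr_fun hψσ l
        rw [h2] at h1
        have h3 := key l
        rw [h2] at h3
        have : ψ l + σ' l = 0 := by linear_combination h3 - h1 + CharTwo.add_self_eq_zero l
        exact CharTwo.add_eq_zero.1 this
      refine hσ' (AlgHom.ext fun l => ?_)
      have h2 : ψ (σ l) = l := DFunLike.congr_fun hψσ l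
      have h3 := key l
      rw [h2, hadd] at h3
      exact (CharTwo.sq_injective (show l ^ 2 = σ' l ^ 2 by rw [sq, sq]; exact h3)).symm
    have hadd : ∀ l, l + ψ (σ l) + ψ l + σ' l = 0 := fun l => by
      have h1 := key (l + 1)
      rw [map_add σ, map_add ψ, map_add ψ, map_add σ', map_one σ, map_one ψ, map_one σ'] at h1
      have : l + ψ (σ l) = ψ l + σ' l := by linear_combination h1 - key l
      rw [this, add_assoc (ψ l + σ' l), CharTwo.add_self_eq_zero]
    let w : (F →ₐ[ZMod 2] F) → F := fun ρ => (if ρ = AlgHom.id _ _ then 1 else 0) +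
      (if ρ = ψ.comp σ then 1 else 0) + (if ρ = ψ then 1 else 0) + (if ρ = σ' then 1 else 0)
    have hw : w = fun _ => 0 := expansion_unique 2 fun l => by
      simp only [w, add_mul, Finset.sum_add_distrib, ite_mul, one_mul, zero_mul, Finset.sum_ite_eq',
        Finset.mem_univ, if_true, Finset.sum_const_zero]
      exact hadd l
    have hw1 := congrFun hw (AlgHom.id _ _)
    simp only [w, if_true, if_neg (Ne.symm hψσ), if_neg (Ne.symm hσ'), add_zero] at hw1
    by_cases hψ1 : ψ = AlgHom.id _ _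
    · refine AlgHom.ext fun l => ?_
      rcases eq_or_ne l 0 with rfl | hl
      · simp
      have h3 := key l
      rw [hψ1] at h3
      exact mul_left_cancel₀ hl h3
    · rw [if_neg (Ne.symm hψ1), add_zero] at hw1
      exact absurd hw1 one_ne_zero
  have hzero : ∀ σ, a 1 σ = 0 → ∀ x, a x σ = 0 := by
    intro σ hσ x
    rcases eq_or_ne x 0 with rfl | hx
    · simpa using haadd 0 0 σ
    obtain ⟨l, rfl⟩ := hφ.2 x
    have hl := (hφne l).1 hx
    have h := haeq l 1 σ hl
    rw [mul_one, hσ, mul_zero] at h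
    exact (mul_eq_zero.1 h).resolve_right ((map_ne_zero σ).2 hl)
  by_cases hall : ∀ σ, a 1 σ = 0
  · ext x v
    simp [ha, hzero _ (hall _)]
  push Not at hall
  obtain ⟨σ, hσ⟩ := hall
  obtain ⟨χ, -, hχ, -⟩ := hchi σ hσ
  exfalso
  rw [ha, Fintype.sum_eq_single σ fun τ hτ => by
    rw [hzero τ (by_contra fun h => hτ (huniq τ σ h hσ)), zero_mul], hχ] at h₀
  exact mul_ne_zero (mul_ne_zero hσ ((map_ne_zero χ).2 hx₀)) ((map_ne_zero σ).2 hv₀) h₀

end Cfsg.Agent.Lib.SuzukiTwo
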