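import Cfsg.Agent.Lib.SuzukiTwo.Setup

/-!
Higman's theorem: in a nonabelian Suzuki 2-group all squares are central involutions and the centre is
elementary abelian.
-/

set_option autoImplicit false

namespace Cfsg.Agent.Lib.SuzukiTwo

open scoped commutatorElement

universe u v

variable {K : Type u} [CommGroup K] {P : Type v} [Group P] [MulDistribMulAction K P]

/-- An invariant abelian normal subgroup containing the involutions. -/
structure Admissible (K : Type u) {P : Type v} [CommGroup K] [Group P] [MulDistribMulAction K P]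
    (A : Subgroup P) : Prop where
  inv : Inv K A
  normal : A.Normal
  comm : ∀ a ∈ A, ∀ b ∈ A, a * b = b * a
  omega_le : Omega P ≤ A

theorem smul_commutator (g : K) (x y : P) : g • ⁅x, y⁆ = ⁅g • x, g • y⁆ :=
  map_commutatorElement (MulDistribMulAction.toMonoidHom P g) x y

theorem mul_self_sq (x : P) : x * x * (x * x) = x ^ 2 ^ 2 := by rw [← sq, ← sq, ← pow_mul, ← sq]

theorem mul_self_pow (x : P) (m : ℕ) : (x * x) ^ m = x ^ m * x ^ m := (Commute.refl x).mul_pow m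

theorem commutator_mem_of_normal {A : Subgroup P} (hA : A.Normal) (y : P) {a : P} (ha : a ∈ A) : ⁅y, a⁆ ∈ A := by
  rw [commutatorElement_def]
  exact mul_mem (hA.conj_mem a ha y) (inv_mem ha)

theorem commutator_mul_right {A : Subgroup P} (hA : A.Normal) (hc : ∀ a ∈ A, ∀ b ∈ A, a * b = b * a) (y : P)
    {a b : P} (ha : a ∈ A) (hb : b ∈ A) : ⁅y, a * b⁆ = ⁅y, a⁆ * ⁅y, b⁆ := by
  rw [show ⁅y, a * b⁆ = ⁅y, a⁆ * (a * ⁅y, b⁆ * a⁻¹) by simp only [commutatorElement_def]; group,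
    hc a ha _ (commutator_mem_of_normal hA y hb), mul_inv_cancel_right]

theorem commutator_pow_right {A : Subgroup P} (hA : A.Normal) (hc : ∀ a ∈ A, ∀ b ∈ A, a * b = b * a) (y : P)
    {a : P} (ha : a ∈ A) : ∀ m : ℕ, ⁅y, a ^ m⁆ = ⁅y, a⁆ ^ m
  | 0 => by simp
  | m + 1 => by
    rw [pow_succ, commutator_mul_right hA hc y (pow_mem ha m) ha, commutator_pow_right hA hc y ha m, pow_succ]

theorem commutator_mul_left (x y a : P) : ⁅x * y, a⁆ = ⁅x, ⁅y, a⁆⁆ * ⁅y, a⁆ * ⁅x, a⁆ := by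
  simp only [commutatorElement_def]; group

theorem commutator_central {c : P} (hc : c ∈ Subgroup.center P) (x : P) : ⁅x, c⁆ = 1 :=
  commutatorElement_eq_one_iff_mul_comm.2 (Subgroup.mem_center_iff.1 hc x)

theorem central_commutator {c : P} (hc : c ∈ Subgroup.center P) (x : P) : ⁅c, x⁆ = 1 :=
  commutatorElement_eq_one_iff_mul_comm.2 (Subgroup.mem_center_iff.1 hc x).symm

namespace Data

variable [Finite P] (D : Data K P)
include D

theorem pow_two_pow_mem_omega {c : P} {i : ℕ} (h : c ^ 2 ^ (i + 1) = 1) : c ^ 2 ^ i ∈ Omega P :=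
  D.mem_omega_iff.2 (by rw [← pow_add, ← two_mul, ← pow_succ', h])

theorem exists_level {A : Subgroup P} (hA : Admissible K A) :
    ∃ k, 1 ≤ k ∧ (∀ a ∈ A, a ^ 2 ^ k = 1) ∧ ∀ v ∈ Omega P, ∃ a ∈ A, a ^ 2 ^ (k - 1) = v := by
  classical
  have hex : ∃ k, ∀ a ∈ A, a ^ 2 ^ k = 1 := by
    have : Fact (Nat.Prime 2) := ⟨Nat.prime_two⟩
    obtain ⟨k, hk⟩ := IsPGroup.iff_card.1 D.pgroup
    exact ⟨k, fun a _ => hk ▸ pow_card_eq_one'⟩
  have hspec := Nat.find_spec hex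
  have hk1 : 1 ≤ Nat.find hex := by
    by_contra h
    obtain ⟨z, hz, hz1, -⟩ := D.exists_involution (D.omega_ne_bot)
    exact hz1 (by simpa [show Nat.find hex = 0 by omega] using hspec z (hA.omega_le hz))
  refine ⟨_, hk1, hspec, fun v hv => ?_⟩
  let N : Subgroup P :=
    { carrier := {v | ∃ a ∈ A, a ^ 2 ^ (Nat.find hex - 1) = v}
      one_mem' := ⟨1, one_mem A, one_pow _⟩
      mul_mem' := by
        rintro _ _ ⟨a, ha, rfl⟩ ⟨b, hb, rfl⟩
        exact ⟨a * b, mul_mem ha hb, Commute.mul_pow (hA.comm a ha b hb) _⟩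
      inv_mem' := by
        rintro _ ⟨a, ha, rfl⟩
        exact ⟨a⁻¹, inv_mem ha, inv_pow a _⟩ }
  have hN : N ≠ ⊥ := fun h => Nat.find_min hex (show Nat.find hex - 1 < Nat.find hex by omega) fun a ha =>
    Subgroup.mem_bot.1 (h ▸ (⟨a, ha, rfl⟩ : a ^ 2 ^ (Nat.find hex - 1) ∈ N))
  refine D.omega_le (fun g x hx => ?_) hN hv
  obtain ⟨a, ha, hax⟩ := hx
  exact ⟨g • a, hA.inv g a ha, by rw [← smul_pow', hax]⟩

section Level

variable {A : Subgroup P} {k : ℕ}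

theorem exists_sqrt (hA : Admissible K A) (hsurj : ∀ v ∈ Omega P, ∃ a ∈ A, a ^ 2 ^ (k - 1) = v) :
    ∀ {i : ℕ}, i + 1 ≤ k → ∀ {a : P}, a ∈ A → a ^ 2 ^ i = 1 → ∃ b ∈ A, b * b = a := by
  intro i
  induction i with
  | zero => exact fun _ a _ h => ⟨1, one_mem A, by rw [one_mul]; exact (by simpa using h : a = 1).symm⟩
  | succ i ih =>
    intro hi a ha h
    obtain ⟨c, hc, hcv⟩ := hsurj _ (D.pow_two_pow_mem_omega h)
    set b := c ^ 2 ^ (k - 1 - (i + 1))
    have hb : b ∈ A := pow_mem hc _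
    have hbb : (b * b) ^ 2 ^ i = a ^ 2 ^ i := by
      rw [← hcv, ← pow_two b, ← pow_mul, ← pow_succ', ← pow_mul, ← pow_add]
      congr 2
      omega
    obtain ⟨b', hb', hb'e⟩ := ih (by omega) (mul_mem (inv_mem (mul_mem hb hb)) ha) (by
      rw [Commute.mul_pow (hA.comm _ (inv_mem (mul_mem hb hb)) a ha), inv_pow, hbb, inv_mul_cancel])
    refine ⟨b * b', mul_mem hb hb', ?_⟩
    rw [show b * b' * (b * b') = b * (b' * b) * b' by group, hA.comm b' hb' b hb,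
      show b * (b * b') * b' = b * b * (b' * b') by group, hb'e, mul_inv_cancel_left]

theorem exists_root_four (hA : Admissible K A) (hk : 2 ≤ k)
    (hsurj : ∀ v ∈ Omega P, ∃ a ∈ A, a ^ 2 ^ (k - 1) = v) {e : P} (he : e ∈ A) (h4 : e ^ 2 ^ 2 = 1) :
    ∃ a ∈ A, a ^ 2 ^ (k - 2) = e := by
  obtain ⟨a, ha, hae⟩ := hsurj _ (D.pow_two_pow_mem_omega (i := 1) h4)
  set r := (a ^ 2 ^ (k - 2))⁻¹ * e with hr
  have har : a ^ 2 ^ (k - 2) ∈ A := pow_mem ha _
  have hr2 : r * r = 1 := by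
    rw [← pow_two, hr, Commute.mul_pow (hA.comm _ (inv_mem har) e he), inv_pow, ← pow_mul, ← pow_succ,
      show k - 2 + 1 = k - 1 by omega, hae, pow_one, inv_mul_cancel]
  obtain ⟨b, hb, hbr⟩ := hsurj r (D.mem_omega_iff.2 hr2)
  refine ⟨a * (b * b), mul_mem ha (mul_mem hb hb), ?_⟩
  rw [Commute.mul_pow (hA.comm a ha _ (mul_mem hb hb)), ← pow_two b, ← pow_mul, ← pow_succ',
    show k - 2 + 1 = k - 1 by omega, hbr, hr, mul_inv_cancel_left]

end Level

/-- A minimal invariant elementary central section inside `C` above `A`. -/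
theorem exists_section {A C : Subgroup P} [A.Normal] (hA : Inv K A) (hC : Inv K C) (hCn : C.Normal) (hAC : A < C) :
    ∃ X : Subgroup P, Inv K X ∧ A < X ∧ X ≤ C ∧ (∀ x ∈ X, x * x ∈ A) ∧ (∀ x ∈ X, ∀ y, ⁅x, y⁆ ∈ A) ∧
      ∀ Y : Subgroup P, Inv K Y → A ≤ Y → Y ≤ X → Y = A ∨ Y = X := by
  classical
  have : Fact (Nat.Prime 2) := ⟨Nat.prime_two⟩
  let act := quotAction A hA
  set π := QuotientGroup.mk' A
  set U := C ⊓ (Omega (P ⧸ A)).comap π with hU
  have hUi : Inv K U := hC.inf fun g x hx => inv_omega g (π x) hx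
  have hAU : A ≤ U := le_inf hAC.le fun a ha => by
    show π a ∈ Omega (P ⧸ A)
    rw [show π a = 1 from (QuotientGroup.eq_one_iff a).2 ha]
    exact one_mem _
  have hUne : U ≠ A := by
    intro h
    have hP := D.pgroup.to_quotient A
    have : Group.IsNilpotent (P ⧸ A) := hP.isNilpotent
    have hCne : C.map π ≠ ⊥ := fun h' => by
      rw [Subgroup.map_eq_bot_iff, QuotientGroup.ker_mk'] at h'
      exact hAC.ne (le_antisymm hAC.le h')
    have hne := Cfsg.Agent.S0065.inf_center_ne_bot (hCn.map π (QuotientGroup.mk'_surjective A)) hCne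
    obtain ⟨n, hn⟩ := IsPGroup.iff_card.1 (hP.to_subgroup (C.map π ⊓ Subgroup.center (P ⧸ A)))
    have hn0 : n ≠ 0 := fun h0 => hne (Subgroup.card_eq_one.1 (by rw [hn, h0, pow_zero]))
    obtain ⟨⟨z, hzC, hzZ⟩, hz⟩ := exists_prime_orderOf_dvd_card'
      (G := ↥(C.map π ⊓ Subgroup.center (P ⧸ A))) 2 (hn ▸ dvd_pow_self 2 hn0)
    rw [← Subgroup.orderOf_coe] at hz
    obtain ⟨x, hx, rfl⟩ := hzC
    have hxU : x ∈ U := ⟨hx, hzZ, by rw [← sq, ← hz, pow_orderOf_eq_one]⟩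
    change orderOf (π x) = 2 at hz
    rw [h] at hxU
    rw [show π x = 1 from (QuotientGroup.eq_one_iff x).2 hxU, orderOf_one] at hz
    exact absurd hz (by norm_num)
  obtain ⟨X, hXmem, hXmin⟩ := (Set.toFinite {X : Subgroup P | Inv K X ∧ A < X ∧ X ≤ U}).exists_minimal
    ⟨U, hUi, lt_of_le_of_ne hAU hUne.symm, le_rfl⟩
  obtain ⟨hXi, hAX, hXU⟩ := hXmem
  refine ⟨X, hXi, hAX, hXU.trans inf_le_left, fun x hx => ?_, fun x hx y => ?_, fun Y hY hAY hYX => ?_⟩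
  · exact (QuotientGroup.eq_one_iff _).1 (hXU hx).2.2
  · rw [← QuotientGroup.eq_one_iff]
    show π ⁅x, y⁆ = 1
    rw [map_commutatorElement]
    exact central_commutator (hXU hx).2.1 _
  · rcases eq_or_lt_of_le hAY with h | h
    · exact Or.inl h.symm
    · exact Or.inr (le_antisymm hYX (hXmin ⟨hY, h, hYX.trans hXU⟩ hYX))

/-- A maximal admissible subgroup of exponent at least four is self-centralizing. -/
theorem centralizer_le {A : Subgroup P} (hA : Admissible K A) {k : ℕ} (hk : 2 ≤ k)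
    (hexp : ∀ a ∈ A, a ^ 2 ^ k = 1) (hsurj : ∀ v ∈ Omega P, ∃ a ∈ A, a ^ 2 ^ (k - 1) = v)
    (hmax : ∀ B, Admissible K B → A ≤ B → B = A) : Subgroup.centralizer (A : Set P) ≤ A := by
  classical
  have := hA.normal
  by_contra hne
  set C := Subgroup.centralizer (A : Set P)
  have hAC : A ≤ C := fun a ha => Subgroup.mem_centralizer_iff.2 fun b hb => hA.comm b hb a ha
  have hCi : Inv K C := fun g c hc => Subgroup.mem_centralizer_iff.2 fun a ha => by
    have h := congrArg (g • ·) (Subgroup.mem_centralizer_iff.1 hc (g⁻¹ • a) (hA.inv _ a ha))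
    simpa only [smul_mul', smul_inv_smul] using h
  obtain ⟨X, hXi, hAX, hXC, hsq, hcA, hmin⟩ :=
    D.exists_section hA.inv hCi inferInstance (lt_of_le_not_ge hAC hne)
  have hXA : ∀ x ∈ X, ∀ a ∈ A, ⁅x, a⁆ = 1 := fun x hx a ha =>
    commutatorElement_eq_one_iff_mul_comm.2 (Subgroup.mem_centralizer_iff.1 (hXC hx) a ha).symm
  have hXc : ∀ x ∈ X, ∀ y ∈ X, ⁅x, y⁆ ∈ Omega P := by
    intro x hx y hy
    refine D.mem_omega_iff.2 ?_
    have h := commutator_mul_left x x y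
    rw [hXA x hx _ (hcA x hx y), one_mul] at h
    rw [← h, commutatorElement_eq_one_iff_mul_comm]
    exact Subgroup.mem_centralizer_iff.1 (hXC hy) _ (hsq x hx) |>.symm.symm
  -- the power map on `X`
  have hpow : ∀ x ∈ X, ∀ y ∈ X, (x * y) ^ 2 ^ k = x ^ 2 ^ k * y ^ 2 ^ k := by
    intro x hx y hy
    have hk' : 2 ^ k = 2 * 2 ^ (k - 1) := by rw [← pow_succ', Nat.sub_add_cancel (by omega)]
    rw [hk', pow_mul, pow_mul, pow_mul]
    have hc := hXc y hy x hx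
    have e : (x * y) ^ 2 = x ^ 2 * y ^ 2 * ⁅y, x⁆ := by
      rw [mul_assoc (x ^ 2), Subgroup.mem_center_iff.1 hc.1 (y ^ 2)]
      rw [pow_two, show x * y * (x * y) = x * (⁅y, x⁆ * (x * y)) * y by simp only [commutatorElement_def]; group,
        ← Subgroup.mem_center_iff.1 hc.1 (x * y), ← Subgroup.mem_center_iff.1 hc.1 (y ^ 2), pow_two, pow_two,
        show x * (x * y * ⁅y, x⁆) * y = x * x * y * (⁅y, x⁆ * y) by group, ← Subgroup.mem_center_iff.1 hc.1 y]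
      group
    rw [e, (show Commute (x ^ 2 * y ^ 2) ⁅y, x⁆ from Subgroup.mem_center_iff.1 hc.1 _).mul_pow]
    have h1 : ⁅y, x⁆ ^ 2 ^ (k - 1) = 1 := by
      rw [show 2 ^ (k - 1) = 2 * 2 ^ (k - 2) by rw [← pow_succ', show k - 2 + 1 = k - 1 by omega], pow_mul, sq,
        hc.2, one_pow]
    rw [h1, mul_one, Commute.mul_pow]
    exact hA.comm _ (by rw [sq]; exact hsq x hx) _ (by rw [sq]; exact hsq y hy)
  have hpv : ∀ x ∈ X, x ^ 2 ^ k ∈ Omega P := fun x hx => D.mem_omega_iff.2 (by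
    rw [← mul_self_pow]
    exact hexp _ (hsq x hx))
  have hinj : ∀ x ∈ X, x ^ 2 ^ k = 1 → x ∈ A := by
    intro x hx h
    obtain ⟨b, hb, hbx⟩ := D.exists_sqrt hA hsurj (i := k - 1) (by omega) (hsq x hx) (by
      rw [← sq, ← pow_mul, ← pow_succ', Nat.sub_add_cancel (show 1 ≤ k by omega), h])
    have hxb : Commute x b := (commutatorElement_eq_one_iff_mul_comm.1 (hXA x hx b hb))
    have h1 : x * b⁻¹ ∈ Omega P := D.mem_omega_iff.2 (by
      rw [← sq, hxb.inv_right.mul_pow, inv_pow, sq, sq, hbx, mul_inv_cancel])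
    simpa using mul_mem (hA.omega_le h1) hb
  obtain ⟨x₀, hx₀, hx₀A⟩ := SetLike.exists_of_lt hAX
  have hσ : ∀ v ∈ Omega P, ∃ x ∈ X, x ^ 2 ^ k = v := by
    intro v hv
    rcases eq_or_ne v 1 with rfl | hv1
    · exact ⟨1, one_mem X, one_pow _⟩
    have h1 : x₀ ^ 2 ^ k ≠ 1 := fun h => hx₀A (hinj x₀ hx₀ h)
    obtain ⟨g, hg, -⟩ := D.trans _ v h1 (hpv x₀ hx₀).2 hv1 hv.2
    exact ⟨g • x₀, hXi g x₀ hx₀, by rw [← smul_pow', hg]⟩
  choose s hsX hs using hσ
  let f : P → P → P := fun x v => if h : v ∈ Omega P then ⁅x, s v h⁆ else 1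
  have hf : ∀ (x v : P) (h : v ∈ Omega P), f x v = ⁅x, s v h⁆ := fun x v h => dif_pos h
  -- commutators depend on the classes modulo `A` only
  have hwd : ∀ x ∈ X, ∀ y ∈ X, ∀ z ∈ X, y ^ 2 ^ k = z ^ 2 ^ k → ⁅x, y⁆ = ⁅x, z⁆ := by
    intro x hx y hy z hz h
    have h1 : y⁻¹ * z ∈ A := hinj _ (mul_mem (inv_mem hy) hz) (by
      rw [hpow _ (inv_mem hy) z hz, inv_pow, h, inv_mul_cancel])
    have e : ⁅x, z⁆ = ⁅x, y⁆ * (y * ⁅x, y⁻¹ * z⁆ * y⁻¹) := by simp only [commutatorElement_def]; group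
    rw [e, hXA x hx _ h1, mul_one, mul_inv_cancel, mul_one]
  have hbilr : ∀ x ∈ X, ∀ y ∈ X, ∀ z ∈ X, ⁅x, y * z⁆ = ⁅x, y⁆ * ⁅x, z⁆ := by
    intro x hx y hy z hz
    rw [show ⁅x, y * z⁆ = ⁅x, y⁆ * (y * ⁅x, z⁆ * y⁻¹) by simp only [commutatorElement_def]; group,
      Subgroup.mem_center_iff.1 (hXc x hx z hz).1 y, mul_inv_cancel_right]
  have hbill : ∀ x ∈ X, ∀ y ∈ X, ∀ z ∈ X, ⁅x * y, z⁆ = ⁅x, z⁆ * ⁅y, z⁆ := by
    intro x hx y hy z hz
    rw [commutator_mul_left, commutator_central (hXc y hy z hz).1, one_mul,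
      Subgroup.mem_center_iff.1 (hXc x hx z hz).1 _]
  have hzero : ∀ x ∈ X, ∀ v ∈ Omega P, f x v = 1 := by
    refine D.section_no_zero_divisors hA.inv hXi hAX.le hsq (fun x hx y _ => hcA x hx y) hmin f
      (fun x hx v hv => by rw [hf x v hv]; exact hXc x hx _ (hsX v hv))
      (fun x hx y hy v hv => by rw [hf _ v hv, hf _ v hv, hf _ v hv]; exact hbill x hx y hy _ (hsX v hv))
      (fun x hx v hv w hw => by
        rw [hf x _ (mul_mem hv hw), hf x v hv, hf x w hw, ← hbilr x hx _ (hsX v hv) _ (hsX w hw)]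
        exact hwd x hx _ (hsX _ _) _ (mul_mem (hsX v hv) (hsX w hw))
          (by rw [hs, hpow _ (hsX v hv) _ (hsX w hw), hs, hs]))
      (fun a ha v hv => by
        rw [hf a v hv, ← commutatorElement_inv, hXA _ (hsX v hv) a ha, inv_one])
      (fun g x hx v hv => by
        rw [hf x v hv, hf _ _ (inv_omega g v hv), smul_commutator]
        exact hwd _ (hXi g x hx) _ (hsX _ _) _ (hXi g _ (hsX v hv)) (by rw [hs, ← smul_pow', hs]))
      hx₀ hx₀A (hpv x₀ hx₀) (fun h => hx₀A (hinj x₀ hx₀ h)) ?_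
    rw [hf _ _ (hpv x₀ hx₀), hwd x₀ hx₀ _ (hsX _ _) x₀ hx₀ (hs _ _), commutatorElement_self]
  refine hAX.ne (hmax X ⟨hXi, ⟨fun x hx y => ?_⟩, fun x hx y hy => ?_, hA.omega_le.trans hAX.le⟩ hAX.le).symm
  · rw [show y * x * y⁻¹ = ⁅x, y⁆⁻¹ * x by simp only [commutatorElement_def]; group]
    exact mul_mem (inv_mem (hAX.le (hcA x hx y))) hx
  · refine commutatorElement_eq_one_iff_mul_comm.1 ?_
    rw [← hwd x hx _ (hsX _ (hpv y hy)) y hy (hs _ _), ← hf x _ (hpv y hy)]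
    exact hzero x hx _ (hpv y hy)

/-- The self-centralizing case. -/
theorem squares_of_centralizer_le {A : Subgroup P} (hA : Admissible K A) (hAtop : A ≠ ⊤) {k : ℕ} (hk : 2 ≤ k)
    (hexp : ∀ a ∈ A, a ^ 2 ^ k = 1) (hsurj : ∀ v ∈ Omega P, ∃ a ∈ A, a ^ 2 ^ (k - 1) = v)
    (hCA : Subgroup.centralizer (A : Set P) ≤ A) :
    (∀ y : P, y * y ∈ Omega P) ∧ ∀ z ∈ Subgroup.center P, z ∈ Omega P := by
  classical
  have := hA.normal
  obtain ⟨X, hXi, hAX, -, hsq, hcA, hmin⟩ :=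
    D.exists_section hA.inv Inv.top inferInstance (lt_top_iff_ne_top.2 hAtop)
  obtain ⟨x₀, hx₀, hx₀A⟩ := SetLike.exists_of_lt hAX
  have cmem := fun (y : P) {a : P} (ha : a ∈ A) => commutator_mem_of_normal hA.normal y ha
  have cmul := fun (y : P) {a b : P} (ha : a ∈ A) (hb : b ∈ A) =>
    commutator_mul_right hA.normal hA.comm y ha hb
  have cpow := fun (y : P) {a : P} (ha : a ∈ A) (m : ℕ) => commutator_pow_right hA.normal hA.comm y ha m
  have htop : ∀ (y : P), ∀ a ∈ A, ⁅y, a⁆ ^ 2 ^ (k - 1) = 1 := fun y a ha => by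
    rw [← cpow y ha]
    exact commutator_central (D.pow_two_pow_mem_omega (by rw [Nat.sub_add_cancel (by omega)]; exact hexp a ha)).1 y
  -- the maps attached to `X`
  choose s hsA hs using hsurj
  let f : ℕ → P → P → P := fun j x v => if h : v ∈ Omega P then ⁅x, s v h⁆ ^ 2 ^ (k - 1 - j) else 1
  have hfeq : ∀ j, 1 ≤ j → j < k → (∀ x ∈ X, ∀ a ∈ A, ⁅x, a⁆ ^ 2 ^ (k - j) = 1) →
      ∀ x ∈ X, ∀ a ∈ A, f j x (a ^ 2 ^ (k - 1)) = ⁅x, a⁆ ^ 2 ^ (k - 1 - j) := by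
    intro j hj hjk hH x hx a ha
    have hv : a ^ 2 ^ (k - 1) ∈ Omega P :=
      D.pow_two_pow_mem_omega (by rw [Nat.sub_add_cancel (by omega)]; exact hexp a ha)
    simp only [f, dif_pos hv]
    obtain ⟨b, hb, hbe⟩ := D.exists_sqrt hA (fun v hv => ⟨s v hv, hsA v hv, hs v hv⟩) (i := k - 1) (by omega)
      (mul_mem (inv_mem ha) (hsA _ hv)) (by
        rw [Commute.mul_pow (hA.comm _ (inv_mem ha) _ (hsA _ hv)), inv_pow, hs, inv_mul_cancel])
    rw [show s _ hv = a * (b * b) by rw [hbe, mul_inv_cancel_left], cmul x ha (mul_mem hb hb),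
      Commute.mul_pow (hA.comm _ (cmem x ha) _ (cmem x (mul_mem hb hb))), cmul x hb hb, mul_self_pow, ← sq,
      ← pow_mul, ← pow_succ, show k - 1 - j + 1 = k - j by omega, hH x hx b hb, mul_one]
  have hfzero : ∀ j, 1 ≤ j → j < k → (∀ x ∈ X, ∀ a ∈ A, ⁅x, a⁆ ^ 2 ^ (k - j) = 1) →
      ∀ x₁ ∈ X, x₁ ∉ A → ∀ a₁ ∈ A, a₁ ^ 2 ^ (k - 1) ≠ 1 → ⁅x₁, a₁⁆ ^ 2 ^ (k - 1 - j) = 1 →
        ∀ x ∈ X, ∀ a ∈ A, ⁅x, a⁆ ^ 2 ^ (k - (j + 1)) = 1 := by
    intro j hj hjk hH x₁ hx₁ hx₁A a₁ ha₁ hne h1 x hx a ha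
    rw [show k - (j + 1) = k - 1 - j by omega, ← hfeq j hj hjk hH x hx a ha]
    refine D.section_no_zero_divisors hA.inv hXi hAX.le hsq (fun x hx y _ => hcA x hx y) hmin (f j)
      ?_ ?_ ?_ ?_ ?_ hx₁ hx₁A (D.pow_two_pow_mem_omega (by rw [Nat.sub_add_cancel (by omega)]; exact hexp a₁ ha₁))
      hne (by rw [hfeq j hj hjk hH x₁ hx₁ a₁ ha₁]; exact h1) x hx _
      (D.pow_two_pow_mem_omega (by rw [Nat.sub_add_cancel (by omega)]; exact hexp a ha))
    · intro x hx v hv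
      simp only [f, dif_pos hv]
      exact D.pow_two_pow_mem_omega (by rw [show k - 1 - j + 1 = k - j by omega]; exact hH x hx _ (hsA v hv))
    · intro x hx y hy v hv
      simp only [f, dif_pos hv]
      have h2 : ⁅x, ⁅y, s v hv⁆⁆ ^ 2 ^ (k - 1 - j) = 1 := by
        rw [← cpow x (cmem y (hsA v hv))]
        exact commutator_central (D.pow_two_pow_mem_omega
          (by rw [show k - 1 - j + 1 = k - j by omega]; exact hH y hy _ (hsA v hv))).1 x
      rw [commutator_mul_left, Commute.mul_pow (hA.comm _ (mul_mem (cmem x (cmem y (hsA v hv))) (cmem y (hsA v hv)))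
        _ (cmem x (hsA v hv))), Commute.mul_pow (hA.comm _ (cmem x (cmem y (hsA v hv))) _ (cmem y (hsA v hv))), h2,
        one_mul]
      exact hA.comm _ (pow_mem (cmem y (hsA v hv)) _) _ (pow_mem (cmem x (hsA v hv)) _)
    · intro x hx v hv w hw
      have e : f j x (v * w) = f j x ((s v hv * s w hw) ^ 2 ^ (k - 1)) := by
        rw [Commute.mul_pow (hA.comm _ (hsA v hv) _ (hsA w hw)), hs, hs]
      rw [e, hfeq j hj hjk hH x hx _ (mul_mem (hsA v hv) (hsA w hw)), cmul x (hsA v hv) (hsA w hw),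
        Commute.mul_pow (hA.comm _ (cmem x (hsA v hv)) _ (cmem x (hsA w hw)))]
      simp only [f, dif_pos hv, dif_pos hw]
    · intro a ha v hv
      simp only [f, dif_pos hv]
      rw [commutatorElement_eq_one_iff_mul_comm.2 (hA.comm a ha _ (hsA v hv)), one_pow]
    · intro g x hx v hv
      have e : f j (g • x) (g • v) = f j (g • x) ((g • s v hv) ^ 2 ^ (k - 1)) := by rw [← smul_pow', hs]
      rw [e, hfeq j hj hjk hH _ (hXi g x hx) _ (hA.inv g _ (hsA v hv)), ← smul_commutator, ← smul_pow']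
      simp only [f, dif_pos hv]
  have hH1 : ∀ x ∈ X, ∀ a ∈ A, ⁅x, a⁆ ^ 2 ^ (k - 1) = 1 := fun x _ => htop x
  have hcentral : ¬ ∀ x ∈ X, ∀ a ∈ A, ⁅x, a⁆ = 1 := fun h => hx₀A (hCA (Subgroup.mem_centralizer_iff.2
    fun a ha => (commutatorElement_eq_one_iff_mul_comm.1 (h x₀ hx₀ a ha)).symm))
  have hxx : ∀ x : P, ⁅x, x * x⁆ = 1 := fun x => commutatorElement_eq_one_iff_mul_comm.2 (mul_assoc x x x).symm
  -- squares of elements of `X` are squares in `A`
  have hq : ∀ x ∈ X, x ^ 2 ^ k = 1 := by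
    by_contra! h
    obtain ⟨x, hx, hxne⟩ := h
    have hxA : x ∉ A := fun h => hxne (hexp x h)
    have hne : (x * x) ^ 2 ^ (k - 1) ≠ 1 := by
      rwa [← sq, ← pow_mul, ← pow_succ', Nat.sub_add_cancel (show 1 ≤ k by omega)]
    have hind : ∀ j, 1 ≤ j → j ≤ k → ∀ x ∈ X, ∀ a ∈ A, ⁅x, a⁆ ^ 2 ^ (k - j) = 1 := by
      intro j hj
      induction j, hj using Nat.le_induction with
      | base => exact fun _ => hH1
      | succ j hj ih =>
        exact fun hjk => hfzero j hj (by omega) (ih (by omega)) x hx hxA _ (hsq x hx) hne (by rw [hxx, one_pow])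
    exact hcentral fun x hx a ha => by simpa using hind k (by omega) le_rfl x hx a ha
  have hroot : ∀ x ∈ X, ∃ b ∈ A, b * b = x * x := fun x hx =>
    D.exists_sqrt hA (fun v hv => ⟨s v hv, hsA v hv, hs v hv⟩) (i := k - 1) (by omega) (hsq x hx)
      (by rw [← sq, ← pow_mul, ← pow_succ', Nat.sub_add_cancel (show 1 ≤ k by omega), hq x hx])
  have hk2 : k = 2 := by
    by_contra hk2
    have hk3 : 3 ≤ k := by omega
    have hid : ∀ x ∈ X, ∀ a ∈ A, ∀ b ∈ A, b * b = ⁅x, a⁆ →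
        ⁅x, b⁆ ^ 2 ^ (k - 2) * ⁅x, a⁆ ^ 2 ^ (k - 2) = ⁅x, b⁆ ^ 2 ^ (k - 2) * b ^ 2 ^ (k - 1) := by
      intro x _ a _ b _ hba
      rw [← hba, ← sq, ← pow_mul, ← pow_succ', show k - 2 + 1 = k - 1 by omega]
    have hidem : ∀ x ∈ X, ∀ a ∈ A, ∃ b ∈ A, b ^ 2 ^ (k - 1) = ⁅x, a⁆ ^ 2 ^ (k - 2) ∧
        ⁅x, b⁆ ^ 2 ^ (k - 2) = ⁅x, a⁆ ^ 2 ^ (k - 2) := by
      intro x hx a ha
      obtain ⟨b, hb, hba⟩ := D.exists_sqrt hA (fun v hv => ⟨s v hv, hsA v hv, hs v hv⟩) (i := k - 1) (by omega)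
        (cmem x ha) (htop x a ha)
      have h1 : b ^ 2 ^ (k - 1) = ⁅x, a⁆ ^ 2 ^ (k - 2) := by
        rw [← hba, ← sq, ← pow_mul, ← pow_succ', show k - 2 + 1 = k - 1 by omega]
      refine ⟨b, hb, h1, ?_⟩
      have h2 := commutator_mul_left x x a
      rw [commutatorElement_eq_one_iff_mul_comm.2 (hA.comm _ (hsq x hx) a ha), ← hba, cmul x hb hb] at h2
      have h3 : (⁅x, b⁆ * ⁅x, b⁆ * (b * b) * (b * b)) ^ 2 ^ (k - 3) = 1 := by rw [← h2, one_pow]
      rw [Commute.mul_pow (hA.comm _ (mul_mem (mul_mem (cmem x hb) (cmem x hb)) (mul_mem hb hb)) _ (mul_mem hb hb)),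
        Commute.mul_pow (hA.comm _ (mul_mem (cmem x hb) (cmem x hb)) _ (mul_mem hb hb)), mul_assoc, ← mul_self_pow,
        ← sq, ← sq (b * b), ← sq b, ← pow_mul, ← pow_mul, ← pow_mul, ← mul_assoc, ← pow_succ', ← sq,
        show k - 3 + 1 = k - 2 by omega, ← pow_add, show 2 + (k - 3) = k - 1 by omega] at h3
      rw [eq_inv_of_mul_eq_one_left h3]
      refine (inv_eq_of_mul_eq_one_right ?_).trans h1
      rw [← pow_add, ← two_mul, ← pow_succ', Nat.sub_add_cancel (show 1 ≤ k by omega), hexp b hb]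
    have hH2 : ∀ x ∈ X, ∀ a ∈ A, ⁅x, a⁆ ^ 2 ^ (k - (1 + 1)) = 1 := by
      by_contra hH2
      -- otherwise `x ↦ ⁅x, ·⁆` would be the identity for all `x`
      have hone : ∀ x ∈ X, x ∉ A → ∀ a ∈ A, ⁅x, a⁆ ^ 2 ^ (k - 2) = a ^ 2 ^ (k - 1) := by
        intro x hx hxA a ha
        obtain ⟨b, hb, h1, h2⟩ := hidem x hx a ha
        have hab : (a⁻¹ * b) ^ 2 ^ (k - 1) = 1 := by
          by_contra hne
          refine hH2 (hfzero 1 le_rfl (by omega) hH1 x hx hxA _ (mul_mem (inv_mem ha) hb) hne ?_)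
          rw [show k - 1 - 1 = k - 2 by omega, cmul x (inv_mem ha) hb,
            Commute.mul_pow (hA.comm _ (cmem x (inv_mem ha)) _ (cmem x hb)), h2,
            ← Commute.mul_pow (hA.comm _ (cmem x (inv_mem ha)) _ (cmem x ha)), ← cmul x (inv_mem ha) ha,
            inv_mul_cancel, commutatorElement_one_right, one_pow]
        rw [Commute.mul_pow (hA.comm _ (inv_mem ha) b hb), inv_pow, inv_mul_eq_one] at hab
        rw [← h1, hab]
      obtain ⟨g, hg⟩ := D.exists_ne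
      have hy := hXi g x₀ hx₀
      have hyA : g • x₀ ∉ A := fun h => hx₀A (by simpa using hA.inv g⁻¹ _ h)
      have hxy : x₀ * g • x₀ ∉ A := fun h => hx₀A (D.mem_of_inv_mul_smul_mem hA.inv hg (by
        rw [show x₀⁻¹ * g • x₀ = (x₀ * x₀)⁻¹ * (x₀ * g • x₀) by group]
        exact mul_mem (inv_mem (hsq x₀ hx₀)) h))
      obtain ⟨z, hz, hz1, -⟩ := D.exists_involution D.omega_ne_bot
      have ha := hsA z hz
      have h3 := hone _ (mul_mem hx₀ hy) hxy _ ha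
      have h4 : ⁅x₀, ⁅g • x₀, s z hz⁆⁆ ^ 2 ^ (k - 2) = 1 := by
        rw [← cpow x₀ (cmem _ ha)]
        exact commutator_central (D.pow_two_pow_mem_omega
          (by rw [show k - 2 + 1 = k - 1 by omega]; exact htop _ _ ha)).1 x₀
      rw [commutator_mul_left, Commute.mul_pow (hA.comm _ (mul_mem (cmem _ (cmem _ ha)) (cmem _ ha)) _ (cmem _ ha)),
        Commute.mul_pow (hA.comm _ (cmem _ (cmem _ ha)) _ (cmem _ ha)), h4, one_mul, hone x₀ hx₀ hx₀A _ ha,
        hone _ hy hyA _ ha, hs] at h3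
      exact hz1 (mul_eq_left.1 h3)
    -- an involution outside `A`
    have hT : ∀ i, i + 1 ≤ k → ∀ c ∈ A, c ^ 2 ^ i = 1 → ∃ a ∈ A, a * a * ⁅x₀, a⁆ = c := by
      intro i
      induction i with
      | zero =>
        intro _ c _ hc1
        exact ⟨1, one_mem A, by rw [show c = 1 by simpa using hc1]; simp⟩
      | succ i ih =>
        intro hi c hc hci
        obtain ⟨b, hb, hbc⟩ := D.exists_sqrt hA (fun v hv => ⟨s v hv, hsA v hv, hs v hv⟩) (i := i + 1) hi hc hci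
        have h1 : ⁅x₀, b⁆ ^ 2 ^ i = 1 := by
          rw [← cpow x₀ hb]
          obtain ⟨a, ha, hae⟩ := D.exists_root_four hA hk (fun v hv => ⟨s v hv, hsA v hv, hs v hv⟩) (pow_mem hb (2 ^ i))
            (by rw [← pow_mul, ← pow_add, show i + 2 = (i + 1) + 1 by omega, pow_succ', pow_mul, sq, hbc, hci])
          rw [← hae, cpow x₀ ha]
          exact hH2 x₀ hx₀ a ha
        obtain ⟨a, ha, hae⟩ := ih (by omega) _ (inv_mem (cmem x₀ hb)) (by rw [inv_pow, h1, inv_one])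
        refine ⟨b * a, mul_mem hb ha, ?_⟩
        rw [cmul x₀ hb ha, show b * a * (b * a) = b * (a * b) * a by group, hA.comm a ha b hb,
          show b * (b * a) * a * (⁅x₀, b⁆ * ⁅x₀, a⁆) = b * b * (a * a * ⁅x₀, b⁆ * ⁅x₀, a⁆) by group,
          hA.comm (a * a) (mul_mem ha ha) _ (cmem x₀ hb), mul_assoc ⁅x₀, b⁆, hae, mul_inv_cancel, mul_one, hbc]
    obtain ⟨a, ha, hae⟩ := hT (k - 1) (by omega) _ (inv_mem (hsq x₀ hx₀))
      (by rw [inv_pow, ← sq, ← pow_mul, ← pow_succ', Nat.sub_add_cancel (show 1 ≤ k by omega), hq x₀ hx₀, inv_one])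
    apply hx₀A
    have h1 : a * x₀ ∈ Omega P := D.mem_omega_iff.2 (by
      rw [show a * x₀ * (a * x₀) = a * (⁅x₀, a⁆ * a) * (x₀ * x₀) by simp only [commutatorElement_def]; group,
        hA.comm _ (cmem x₀ ha) a ha, ← mul_assoc a, hae, inv_mul_cancel])
    simpa using mul_mem (inv_mem ha) (hA.omega_le h1)
  subst hk2
  have hkey : ∀ x ∈ X, x ∉ A → ∀ a ∈ A, ⁅x, a⁆ = 1 → a * a = 1 := by
    intro x hx hxA a ha h
    by_contra hne
    refine hcentral fun y hy b hb => ?_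
    simpa using hfzero 1 le_rfl one_lt_two hH1 x hx hxA a ha (by rwa [pow_one, sq]) (by rw [h, one_pow]) y hy b hb
  refine ⟨fun y => ?_, fun z hz => ?_⟩
  · have hcΩ : ∀ (u : P), ∀ a ∈ A, ⁅u, a⁆ ∈ Omega P := fun u a ha =>
      D.mem_omega_iff.2 (by rw [← sq]; simpa using htop u a ha)
    have hyA : ∀ u : P, u * u ∈ A := fun u => hCA (Subgroup.mem_centralizer_iff.2 fun a ha => by
      refine (commutatorElement_eq_one_iff_mul_comm.1 ?_).symm
      rw [commutator_mul_left, commutator_central (hcΩ u a ha).1, one_mul, (hcΩ u a ha).2])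
    have hxΩ : ∀ x ∈ X, x * x ∈ Omega P := fun x hx => D.mem_omega_iff.2 (by
      rw [mul_self_sq]; exact hq x hx)
    -- squares of commutators with elements of `X`
    have hc2 : ∀ x ∈ X, ∀ u : P, ⁅x, ⁅x, u⁆⁆ = ⁅x, u⁆ * ⁅x, u⁆ := by
      intro x hx u
      have h := commutator_mul_left x x u
      rw [central_commutator (hxΩ x hx).1, mul_assoc] at h
      rw [eq_inv_of_mul_eq_one_left h.symm]
      exact inv_eq_of_mul_eq_one_right (by
        have hsq' : ⁅x, u⁆ * ⁅x, u⁆ ∈ Omega P := D.mem_omega_iff.2 (by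
          rw [mul_self_sq]
          exact hexp _ (hcA x hx u))
        exact hsq'.2)
    have hfix : ∀ x ∈ X, ∀ x' ∈ X, ∀ b ∈ A, b * b ≠ 1 → ⁅x, b⁆ = b * b → ⁅x', b⁆ = b * b → x * x' ∈ A := by
      intro x hx x' hx' b hb hne h h'
      by_contra hxx'
      refine hne (hkey _ (mul_mem hx hx') hxx' b hb ?_)
      rw [commutator_mul_left, commutator_central (hcΩ x' b hb).1, one_mul, h, h']
      exact D.mem_omega_iff.1 (D.mem_omega_iff.2 (by
        rw [mul_self_sq]; exact hexp b hb))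
    have hlin : ∀ x ∈ X, ∀ u w : P, ⁅x, u * w⁆ * ⁅x, u * w⁆ = ⁅x, u⁆ * ⁅x, u⁆ * (⁅x, w⁆ * ⁅x, w⁆) := by
      intro x hx u w
      have e : ⁅x, u * w⁆ = ⁅x, u⁆ * (⁅u, ⁅x, w⁆⁆ * ⁅x, w⁆) := by simp only [commutatorElement_def]; group
      have h1 := hcΩ u _ (hcA x hx w)
      rw [e]
      simp only [← sq]
      rw [Commute.mul_pow (hA.comm _ (hcA x hx u) _ (mul_mem (hA.omega_le h1) (hcA x hx w))),
        Commute.mul_pow (hA.comm _ (hA.omega_le h1) _ (hcA x hx w)), sq ⁅u, ⁅x, w⁆⁆, h1.2, one_mul]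
    have hpair : ∀ u : P, (∀ x ∈ X, ⁅x, u⁆ * ⁅x, u⁆ = 1) ∨ ∀ x ∈ X, x ∉ A → ⁅x, u⁆ * ⁅x, u⁆ ≠ 1 := by
      intro u
      by_contra! h
      obtain ⟨⟨x, hx, hxne⟩, x', hx', hx'A, hx'e⟩ := h
      have hxA : x ∉ A := fun hxA => hxne (hcΩ u x hxA |> fun h => by
        rw [← commutatorElement_inv u x, ← mul_inv_rev, h.2, inv_one])
      have e : ⁅x * x', u⁆ = ⁅x, ⁅x', u⁆⁆ * ⁅x', u⁆ * ⁅x, u⁆ := commutator_mul_left x x' u
      have h1 : ⁅x * x', u⁆ * ⁅x * x', u⁆ = ⁅x, u⁆ * ⁅x, u⁆ := by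
        rw [e]
        simp only [← sq]
        rw [Commute.mul_pow (hA.comm _ (mul_mem (cmem x (hcA x' hx' u)) (hcA x' hx' u)) _ (hcA x hx u)),
          Commute.mul_pow (hA.comm _ (cmem x (hcA x' hx' u)) _ (hcA x' hx' u)), sq, (hcΩ x _ (hcA x' hx' u)).2,
          sq, hx'e, one_mul, one_mul]
      have hb := hcA x hx u
      have h2 := hc2 x hx u
      have h3 : ⁅x * x', ⁅x, u⁆⁆ = ⁅x, u⁆ * ⁅x, u⁆ := by
        obtain ⟨d, hd, hde⟩ : ∃ d ∈ Omega P, ⁅x * x', u⁆ = d * ⁅x, u⁆ := by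
          refine ⟨⁅x * x', u⁆ * ⁅x, u⁆⁻¹, D.mem_omega_iff.2 ?_, by group⟩
          rw [← sq, Commute.mul_pow (hA.comm _ (hcA _ (mul_mem hx hx') u) _ (inv_mem hb)), inv_pow, sq, sq, h1,
            mul_inv_cancel]
        have h4 := hc2 _ (mul_mem hx hx') u
        rw [h1, hde, cmul _ (hA.omega_le hd) hb, commutator_central hd.1, one_mul] at h4
        exact h4
      have h5 := hfix x hx _ (mul_mem hx hx') _ hb hxne h2 h3
      apply hx'A
      rw [show x' = (x * x)⁻¹ * (x * (x * x')) by group]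
      exact mul_mem (inv_mem (hsq x hx)) h5
    have hψ : ∀ (x : P), x ∈ X → ∀ u : P, ⁅x, u⁆ * ⁅x, u⁆ = 1 := by
      let N : Subgroup P :=
        { carrier := {u | ∀ x ∈ X, ⁅x, u⁆ * ⁅x, u⁆ = 1}
          one_mem' := fun x _ => by rw [commutatorElement_one_right, one_mul]
          mul_mem' := fun {u w} hu hw x hx => by rw [hlin x hx u w, hu x hx, hw x hx, one_mul]
          inv_mem' := fun {u} hu x hx => by
            have h := hlin x hx u u⁻¹
            rwa [mul_inv_cancel, commutatorElement_one_right, hu x hx, one_mul, one_mul, eq_comm] at h }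
      have hNi : Inv K N := fun g u hu x hx => by
        have h := congrArg (g • ·) (hu (g⁻¹ • x) (hXi _ x hx))
        simpa only [smul_mul', smul_commutator, smul_inv_smul, smul_one] using h
      have htop' : N = ⊤ := by
        refine eq_top_iff.2 fun u _ => ?_
        by_contra hu
        obtain ⟨g, hg⟩ := D.exists_ne
        refine hu (D.mem_of_inv_mul_smul_mem hNi hg ((hpair _).resolve_right fun h => h x₀ hx₀ hx₀A ?_))
        have hgu : g • u ∉ N := fun h' => hu (by simpa using hNi g⁻¹ _ h')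
        have h1 : ⁅x₀, u⁆ * ⁅x₀, u⁆ ≠ 1 := (hpair u).resolve_left hu x₀ hx₀ hx₀A
        have h2 : ⁅x₀, g • u⁆ * ⁅x₀, g • u⁆ ≠ 1 := (hpair _).resolve_left hgu x₀ hx₀ hx₀A
        have hbb : ∀ w, ⁅x₀, w⁆ * ⁅x₀, w⁆ ∈ Omega P := fun w => D.mem_omega_iff.2 (by
          rw [mul_self_sq]
          exact hexp _ (hcA x₀ hx₀ w))
        have hinv : ⁅x₀, u⁻¹⁆ * ⁅x₀, u⁻¹⁆ = ⁅x₀, u⁆ * ⁅x₀, u⁆ := by
          have h := hlin x₀ hx₀ u u⁻¹
          rw [mul_inv_cancel, commutatorElement_one_right, one_mul] at h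
          rw [← inv_eq_of_mul_eq_one_right h.symm]
          exact inv_eq_of_mul_eq_one_right (hbb u).2
        -- the fixed vector is unique
        obtain ⟨h', hh'⟩ : ∃ h' : K, h' • (⁅x₀, u⁆ * ⁅x₀, u⁆) = ⁅x₀, g • u⁆ * ⁅x₀, g • u⁆ :=
          (D.trans _ _ h1 (hbb u).2 h2 (hbb _).2).exists
        have hfix1 := hc2 x₀ hx₀ u
        have hfix2 := hc2 x₀ hx₀ (g • u)
        have hfix3 : ⁅h' • x₀, h' • ⁅x₀, u⁆⁆ = ⁅x₀, g • u⁆ * ⁅x₀, g • u⁆ := by
          rw [← smul_commutator, hfix1, hh']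
        obtain ⟨d, hd, hde⟩ : ∃ d ∈ Omega P, h' • ⁅x₀, u⁆ = d * ⁅x₀, g • u⁆ := by
          refine ⟨h' • ⁅x₀, u⁆ * ⁅x₀, g • u⁆⁻¹, D.mem_omega_iff.2 ?_, by group⟩
          rw [← sq, Commute.mul_pow (hA.comm _ (hA.inv h' _ (hcA x₀ hx₀ u)) _ (inv_mem (hcA x₀ hx₀ _))), inv_pow,
            sq, sq, ← smul_mul', hh', mul_inv_cancel]
        rw [hde, cmul _ (hA.omega_le hd) (hcA x₀ hx₀ _), commutator_central hd.1, one_mul] at hfix3
        have hh1 : h' = 1 := by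
          by_contra hne
          refine hx₀A (D.mem_of_inv_mul_smul_mem hA.inv hne ?_)
          rw [show x₀⁻¹ * h' • x₀ = (x₀ * x₀)⁻¹ * (x₀ * h' • x₀) by group]
          exact mul_mem (inv_mem (hsq x₀ hx₀))
            (hfix x₀ hx₀ _ (hXi h' x₀ hx₀) _ (hcA x₀ hx₀ _) h2 hfix2 hfix3)
        rw [hh1, one_smul] at hh'
        rw [hlin x₀ hx₀ u⁻¹ (g • u), hinv, hh']
        exact (hbb _).2
      intro x hx u
      exact (htop' ▸ Subgroup.mem_top u : u ∈ N) x hx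
    -- conclusion
    refine D.mem_omega_iff.2 (hkey x₀ hx₀ hx₀A _ (hyA y) ?_)
    rw [show ⁅x₀, y * y⁆ = ⁅x₀, y⁆ * (⁅y, ⁅x₀, y⁆⁆ * ⁅x₀, y⁆) by simp only [commutatorElement_def]; group,
      commutator_central (D.mem_omega_iff.2 (hψ x₀ hx₀ y)).1, one_mul]
    exact hψ x₀ hx₀ y
  · refine D.mem_omega_iff.2 (hkey x₀ hx₀ hx₀A z ?_ (commutator_central hz x₀))
    exact hCA (Subgroup.center_le_centralizer _ hz)

/-- Higman's theorem. -/
theorem higman (hne : ∃ x y : P, x * y ≠ y * x) :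
    (∀ y : P, y * y ∈ Omega P) ∧ Subgroup.center P = Omega P := by
  classical
  have hΩle : Omega P ≤ Subgroup.center P := fun x hx => hx.1
  have hZadm : Admissible K (Subgroup.center P) :=
    ⟨inv_center, inferInstance, fun a _ b hb => Subgroup.mem_center_iff.1 hb a, hΩle⟩
  obtain ⟨A, ⟨hA, hZA⟩, hAmax⟩ := (Set.toFinite {A : Subgroup P | Admissible K A ∧ Subgroup.center P ≤ A}).exists_maximal
    ⟨_, hZadm, le_rfl⟩
  have hmax : ∀ B, Admissible K B → A ≤ B → B = A := fun B hB h =>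
    le_antisymm (hAmax ⟨hB, hZA.trans h⟩ h) h
  obtain ⟨k, hk1, hexp, hsurj⟩ := D.exists_level hA
  have := hA.normal
  by_cases hk : 2 ≤ k
  · have hAtop : A ≠ ⊤ := fun h => by
      obtain ⟨x, y, hxy⟩ := hne
      exact hxy (hA.comm x (h ▸ Subgroup.mem_top x) y (h ▸ Subgroup.mem_top y))
    obtain ⟨h1, h2⟩ :=
      D.squares_of_centralizer_le hA hAtop hk hexp hsurj (D.centralizer_le hA hk hexp hsurj hmax)
    exact ⟨h1, le_antisymm h2 hΩle⟩
  have hk' : k = 1 := by omega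
  have hAΩ : A = Omega P := le_antisymm (fun a ha => D.mem_omega_iff.2 (by
    simpa [hk', sq] using hexp a ha)) hA.omega_le
  have hZΩ : Subgroup.center P = Omega P := le_antisymm (hAΩ ▸ hZA) hΩle
  refine ⟨fun y => ?_, hZΩ⟩
  -- the second centre meets the derived subgroup in the involutions
  have : (Omega P).Normal := hAΩ ▸ hA.normal
  have hCΩ : commutator P ≤ Omega P := by
    by_contra hnot
    set C := commutator P ⊔ Omega P
    have hlt : Omega P < C := lt_of_le_not_ge le_sup_right fun h => hnot (le_sup_left.trans h)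
    obtain ⟨X, hXi, hΩX, hXC, hsq, hcX, -⟩ :=
      D.exists_section inv_omega (inv_commutator.sup inv_omega) inferInstance hlt
    refine hΩX.ne (hAΩ ▸ (hmax X ⟨hXi, ⟨fun x hx y => ?_⟩, fun x hx y hy => ?_, hΩX.le⟩
      (hAΩ ▸ hΩX.le)).symm)
    · rw [show y * x * y⁻¹ = ⁅x, y⁆⁻¹ * x by simp only [commutatorElement_def]; group]
      exact mul_mem (inv_mem (hΩX.le (hcX x hx y))) hx
    · -- `x` centralizes the derived subgroup
      let φ : P →* Omega P := MonoidHom.mk' (fun u => ⟨⁅x, u⁆, hcX x hx u⟩) fun a b => Subtype.ext (by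
        show ⁅x, a * b⁆ = ⁅x, a⁆ * ⁅x, b⁆
        rw [show ⁅x, a * b⁆ = ⁅x, a⁆ * (a * ⁅x, b⁆ * a⁻¹) by simp only [commutatorElement_def]; group,
          Subgroup.mem_center_iff.1 (hcX x hx b).1 a, mul_inv_cancel_right])
      have hker : C ≤ φ.ker := by
        refine sup_le ?_ fun w hw => Subtype.ext (commutator_central hw.1 x)
        rw [commutator_def, Subgroup.commutator_le]
        intro a _ b _
        rw [MonoidHom.mem_ker, map_commutatorElement, commutatorElement_eq_one_iff_mul_comm]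
        exact Subtype.ext (Subgroup.mem_center_iff.1 (φ b).2.1 _)
      exact commutatorElement_eq_one_iff_mul_comm.1 (congrArg Subtype.val (MonoidHom.mem_ker.1 (hker (hXC hy))))
  have hcy : ∀ u : P, ⁅y, u⁆ ∈ Omega P := fun u =>
    hCΩ (Subgroup.commutator_mem_commutator (Subgroup.mem_top y) (Subgroup.mem_top u))
  rw [← hZΩ, Subgroup.mem_center_iff]
  intro u
  refine (commutatorElement_eq_one_iff_mul_comm.1 ?_).symm
  rw [commutator_mul_left, commutator_central (hcy u).1, one_mul, (hcy u).2]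

end Data

end Cfsg.Agent.Lib.SuzukiTwo
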