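import Cfsg.Agent.Lib.SuzukiTwo.Field

/-!
Regular modules for a cyclic group of order `2 ^ n - 1`: they are fields, irreducible free modules are
regular, and equivariant biadditive maps between them have no zero divisors.
-/

set_option autoImplicit false

namespace Cfsg.Agent.Lib.SuzukiTwo

universe u v w

/-- The action of `K` is simply transitive on the nontrivial elements. -/
def Regular (K : Type u) (V : Type v) [Monoid K] [Monoid V] [MulDistribMulAction K V] : Prop :=
  ∀ x y : V, x ≠ 1 → y ≠ 1 → ∃! g : K, g • x = y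

variable {K : Type u} [CommGroup K]

theorem smul_ne_one {V : Type v} [Group V] [MulDistribMulAction K V] (g : K) {x : V} (hx : x ≠ 1) :
    g • x ≠ 1 := fun h => hx (by rw [← inv_smul_smul g x, h, smul_one])

theorem exists_field {V : Type v} [CommGroup V] [Finite V] [Nontrivial V] [MulDistribMulAction K V]
    (hV : Regular K V) (h2 : ∀ x : V, x * x = 1) :
    ∃ (F : Type v) (_ : Field F) (_ : CharP F 2) (_ : Finite F) (e : Additive V ≃+ F) (θ : K → F),
      (∀ g, θ g ≠ 0) ∧ (∀ a, a ≠ 0 → ∃! g, θ g = a) ∧ (∀ g h, θ (g * h) = θ g * θ h) ∧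
        ∀ g (v : V), e (Additive.ofMul (g • v)) = θ g * e (Additive.ofMul v) := by
  classical
  obtain ⟨v₀, hv₀⟩ := exists_ne (1 : V)
  choose k hk hku using fun u : {u : V // u ≠ 1} => hV v₀ u hv₀ u.2
  let m : V → V → V := fun u w => if h : u = 1 then 1 else k ⟨u, h⟩ • w
  have hm : ∀ (u w : V) (h : u ≠ 1), m u w = k ⟨u, h⟩ • w := fun u w h => dif_neg h
  have hm1 : ∀ w, m 1 w = 1 := fun w => dif_pos rfl
  have h1m : ∀ u, m u 1 = 1 := fun u => by
    by_cases h : u = 1
    · rw [h, hm1]
    · rw [hm _ _ h, smul_one]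
  have hmv : ∀ w, m v₀ w = w := fun w => by
    rw [hm _ _ hv₀, ← hku ⟨v₀, hv₀⟩ 1 (one_smul _ _), one_smul]
  have hcomm : ∀ u w, m u w = m w u := by
    intro u w
    by_cases hu : u = 1
    · rw [hu, hm1, h1m]
    by_cases hw : w = 1
    · rw [hw, hm1, h1m]
    rw [hm _ _ hu, hm _ _ hw]
    calc k ⟨u, hu⟩ • w = k ⟨u, hu⟩ • k ⟨w, hw⟩ • v₀ := by rw [hk ⟨w, hw⟩]
      _ = k ⟨w, hw⟩ • u := by rw [← mul_smul, mul_comm, mul_smul, hk ⟨u, hu⟩]
  have hld : ∀ u w w', m u (w * w') = m u w * m u w' := fun u w w' => by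
    by_cases h : u = 1
    · rw [h, hm1, hm1, hm1, one_mul]
    · rw [hm _ _ h, hm _ _ h, hm _ _ h, smul_mul']
  have hassoc : ∀ a b c, m (m a b) c = m a (m b c) := by
    intro a b c
    by_cases ha : a = 1
    · rw [ha, hm1, hm1, hm1]
    by_cases hb : b = 1
    · rw [hb, h1m, hm1, h1m]
    have hab : m a b ≠ 1 := by rw [hm _ _ ha]; exact smul_ne_one _ hb
    rw [hm _ _ hab, hm a (m b c) ha, hm b c hb, ← mul_smul]
    congr 1
    refine (hku ⟨m a b, hab⟩ _ ?_).symm
    show _ • v₀ = m a b
    rw [mul_smul, hk ⟨b, hb⟩]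
    exact (hm _ _ ha).symm
  let R : CommRing (Additive V) :=
    { (inferInstance : AddCommGroup (Additive V)) with
      mul := fun a b => Additive.ofMul (m a.toMul b.toMul)
      one := Additive.ofMul v₀
      mul_assoc := fun a b c => congrArg Additive.ofMul (hassoc _ _ _)
      one_mul := fun a => congrArg Additive.ofMul (hmv _)
      mul_one := fun a => congrArg Additive.ofMul ((hcomm _ _).trans (hmv _))
      left_distrib := fun a b c => congrArg Additive.ofMul (hld _ _ _)
      right_distrib := fun a b c => congrArg Additive.ofMul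
        ((hcomm _ _).trans ((hld _ _ _).trans (congrArg₂ (· * ·) (hcomm _ _) (hcomm _ _))))
      zero_mul := fun a => congrArg Additive.ofMul (hm1 _)
      mul_zero := fun a => congrArg Additive.ofMul (h1m _)
      mul_comm := fun a b => congrArg Additive.ofMul (hcomm _ _) }
  let _ : CommRing (Additive V) := R
  have : Nontrivial (Additive V) := ⟨⟨1, 0, fun h => hv₀ (congrArg Additive.toMul h)⟩⟩
  have : NoZeroDivisors (Additive V) := ⟨fun {a b} h => by
    by_contra! hne
    have hu : a.toMul ≠ 1 := fun h => hne.1 (congrArg Additive.ofMul h)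
    have hw : b.toMul ≠ 1 := fun h => hne.2 (congrArg Additive.ofMul h)
    have h' : m a.toMul b.toMul = 1 := congrArg Additive.toMul h
    rw [hm _ _ hu] at h'
    exact smul_ne_one _ hw h'⟩
  have : IsDomain (Additive V) := NoZeroDivisors.to_isDomain _
  let _ : Field (Additive V) := (Finite.isDomain_to_isField (Additive V)).toField
  have h2' : (2 : Additive V) = 0 := by
    rw [← one_add_one_eq_two]
    exact congrArg Additive.ofMul (h2 v₀)
  have hkθ : ∀ (g : K) (h : g • v₀ ≠ 1), k ⟨g • v₀, h⟩ = g := fun g h => (hku ⟨g • v₀, h⟩ g rfl).symm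
  have hθ : ∀ (g : K) (v : V), g • v = m (g • v₀) v := fun g v => by
    rw [hm _ _ (smul_ne_one g hv₀), hkθ]
  refine ⟨Additive V, inferInstance, CharTwo.of_one_ne_zero_of_two_eq_zero one_ne_zero h2', inferInstance,
    AddEquiv.refl _, fun g => Additive.ofMul (g • v₀), ?_, ?_, ?_, ?_⟩
  · exact fun g h => smul_ne_one g hv₀ (congrArg Additive.toMul h)
  · intro a ha
    have hu : a.toMul ≠ 1 := fun h => ha (congrArg Additive.ofMul h)
    exact ⟨k ⟨a.toMul, hu⟩, congrArg Additive.ofMul (hk ⟨a.toMul, hu⟩),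
      fun g hg => hku ⟨a.toMul, hu⟩ g (congrArg Additive.toMul hg)⟩
  · intro g h
    refine congrArg Additive.ofMul ?_
    rw [mul_smul]
    exact hθ g (h • v₀)
  · intro g v
    exact congrArg Additive.ofMul (hθ g v)

/-- Equivariant biadditive maps between regular modules vanish or have no zero divisors. -/
theorem no_zero_divisors {M : Type v} {V : Type w} [CommGroup M] [CommGroup V] [Finite M] [Finite V]
    [MulDistribMulAction K M] [MulDistribMulAction K V] (hM : Regular K M) (hV : Regular K V)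
    (hM2 : ∀ x : M, x * x = 1) (hV2 : ∀ x : V, x * x = 1) (hV4 : 4 ≤ Nat.card V) (B : M →* V →* V)
    (hB : ∀ (g : K) x v, B (g • x) (g • v) = g • B x v) {x : M} {v : V} (hx : x ≠ 1) (hv : v ≠ 1)
    (h : B x v = 1) : B = 1 := by
  classical
  have : Nontrivial M := nontrivial_of_ne _ _ hx
  have : Nontrivial V := nontrivial_of_ne _ _ hv
  obtain ⟨L, _, _, _, e₁, θ₁, hθ₁0, hθ₁, hθ₁m, he₁⟩ := exists_field hM hM2
  obtain ⟨F, _, _, _, e₂, θ₂, hθ₂0, hθ₂, hθ₂m, he₂⟩ := exists_field hV hV2
  choose k₂ hk₂ hk₂u using hθ₂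
  let φ : F → L := fun l => if hl : l = 0 then 0 else θ₁ (k₂ l hl)
  have hφθ : ∀ g, φ (θ₂ g) = θ₁ g := fun g => by
    simp only [φ, dif_neg (hθ₂0 g)]
    rw [← hk₂u _ (hθ₂0 g) g rfl]
  have hφb : Function.Bijective φ := by
    constructor
    · intro a b hab
      by_cases ha : a = 0 <;> by_cases hb : b = 0
      · rw [ha, hb]
      · simp only [φ, dif_pos ha, dif_neg hb] at hab
        exact absurd hab.symm (hθ₁0 _)
      · simp only [φ, dif_pos hb, dif_neg ha] at hab
        exact absurd hab (hθ₁0 _)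
      · simp only [φ, dif_neg ha, dif_neg hb] at hab
        have := (hθ₁ _ (hθ₁0 (k₂ a ha))).unique rfl hab.symm
        rw [← hk₂ a ha, this, hk₂ b hb]
    · intro b
      by_cases hb : b = 0
      · exact ⟨0, by simp [φ, hb]⟩
      · obtain ⟨g, hg, -⟩ := hθ₁ b hb
        exact ⟨θ₂ g, (hφθ g).trans hg⟩
  have hφm : ∀ a b, φ (a * b) = φ a * φ b := by
    intro a b
    by_cases ha : a = 0
    · simp [φ, ha]
    by_cases hb : b = 0
    · simp [φ, hb]
    rw [← hk₂ a ha, ← hk₂ b hb, ← hθ₂m, hφθ, hφθ, hφθ, hθ₁m]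
  let B' : L →+ F →+ F := AddMonoidHom.mk' (fun x => AddMonoidHom.mk'
      (fun w => e₂ (Additive.ofMul (B (e₁.symm x).toMul (e₂.symm w).toMul)))
      fun a b => by rw [map_add, toMul_add, map_mul, ofMul_mul, map_add])
    fun a b => by
      ext w
      show e₂ _ = e₂ _ + e₂ _
      rw [map_add, toMul_add, map_mul, MonoidHom.mul_apply, ofMul_mul, map_add]
  have hB'app : ∀ a b, B' (e₁ (Additive.ofMul a)) (e₂ (Additive.ofMul b)) = e₂ (Additive.ofMul (B a b)) :=
    fun a b => by simp [B']
  have hB' : B' = 0 := by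
    refine biadditive_no_zero_divisors (x₀ := e₁ (Additive.ofMul x)) (v₀ := e₂ (Additive.ofMul v))
      (hV4.trans_eq (Nat.card_congr (Additive.ofMul.trans e₂.toEquiv))) φ hφb hφm B' ?_ ?_ ?_ ?_
    · intro l a b hl
      obtain ⟨a', rfl⟩ := e₁.surjective a
      obtain ⟨b', rfl⟩ := e₂.surjective b
      obtain ⟨a', rfl⟩ := Additive.ofMul.surjective a'
      obtain ⟨b', rfl⟩ := Additive.ofMul.surjective b'
      rw [← hk₂ l hl, hφθ, ← he₁, ← he₂, hB'app, hB, he₂, hB'app]
    · simpa using hx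
    · simpa using hv
    · rw [hB'app, h, ofMul_one, map_zero]
  ext a b
  have h1 := hB'app a b
  rw [hB', AddMonoidHom.zero_apply, AddMonoidHom.zero_apply] at h1
  simpa using e₂.map_eq_zero_iff.1 h1.symm

/-- An irreducible module on which `K` acts freely is regular. -/
theorem regular_of_minimal {M : Type v} [CommGroup M] [Finite K] [MulDistribMulAction K M]
    {n : ℕ} (hK : Nat.card K + 1 = 2 ^ n) (hM2 : ∀ x : M, x * x = 1)
    (free : ∀ (g : K) (x : M), g • x = x → g = 1 ∨ x = 1)
    (hmin : ∀ N : Subgroup M, (∀ (g : K), ∀ x ∈ N, g • x ∈ N) → N = ⊥ ∨ N = ⊤) : Regular K M := by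
  classical
  intro x y hx hy
  have : Fintype K := Fintype.ofFinite _
  let ρ : K →* AddMonoid.End (Additive M) :=
    { toFun := fun g => MonoidHom.toAdditive (MulDistribMulAction.toMonoidHom M g)
      map_one' := AddMonoidHom.ext fun a => congrArg Additive.ofMul (one_smul K a.toMul)
      map_mul' := fun g h => AddMonoidHom.ext fun a => congrArg Additive.ofMul (mul_smul g h a.toMul) }
  have hρ : ∀ g (m : M), ρ g (Additive.ofMul m) = Additive.ofMul (g • m) := fun g m => rfl
  have : Nontrivial (AddMonoid.End (Additive M)) := ⟨⟨1, 0, fun h => hx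
    (congrArg Additive.toMul (DFunLike.congr_fun h (Additive.ofMul x)))⟩⟩
  have : CharP (AddMonoid.End (Additive M)) 2 := CharTwo.of_one_ne_zero_of_two_eq_zero one_ne_zero <| by
    rw [← one_add_one_eq_two]
    exact AddMonoidHom.ext fun a => congrArg Additive.ofMul (hM2 a.toMul)
  have : ExpChar (AddMonoid.End (Additive M)) 2 := .prime Nat.prime_two
  set T := Subring.closure (Set.range ρ)
  have hcomm : IsMulCommutative T := Subring.isMulCommutative_closure (by
    rintro _ ⟨g, rfl⟩ _ ⟨h, rfl⟩; rw [← map_mul, mul_comm, map_mul])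
  have hc : ∀ a ∈ T, ∀ b ∈ T, a * b = b * a := fun a ha b hb =>
    congrArg Subtype.val (hcomm.1.1 (⟨a, ha⟩ : T) ⟨b, hb⟩)
  have hρT : ∀ g, ρ g ∈ T := fun g => Subring.subset_closure ⟨g, rfl⟩
  have hq : ∀ a ∈ T, a ^ 2 ^ n = a := by
    intro a ha
    induction ha using Subring.closure_induction with
    | mem a ha =>
      obtain ⟨g, rfl⟩ := ha
      rw [← map_pow, ← hK, pow_succ, pow_card_eq_one', one_mul]
    | zero => rw [zero_pow (by positivity)]
    | one => rw [one_pow]
    | add a b ha hb h1 h2 => rw [add_pow_expChar_pow_of_commute 2 n (hc a ha b hb), h1, h2]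
    | neg a ha h1 => rw [CharTwo.neg_eq]; exact h1
    | mul a b ha hb h1 h2 => rw [Commute.mul_pow (hc a ha b hb), h1, h2]
  let N : Subgroup M :=
    { carrier := {m | ∃ a ∈ T, a (Additive.ofMul x) = Additive.ofMul m}
      one_mem' := ⟨0, T.zero_mem, rfl⟩
      mul_mem' := by
        rintro a b ⟨f, hf, hfa⟩ ⟨f', hf', hfb⟩
        exact ⟨f + f', T.add_mem hf hf', by show f _ + f' _ = _; rw [hfa, hfb]; rfl⟩
      inv_mem' := by
        rintro a ⟨f, hf, hfa⟩
        exact ⟨f, hf, by rw [hfa, inv_eq_of_mul_eq_one_right (hM2 a)]⟩ }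
  obtain ⟨a, haT, hay⟩ : y ∈ N := by
    rcases hmin N (fun g m ⟨f, hf, hfm⟩ => ⟨ρ g * f, T.mul_mem (hρT g) hf, by
      show ρ g (f _) = _
      rw [hfm, hρ]⟩) with h | h
    · exact absurd (show x = 1 from Subgroup.mem_bot.1 (h ▸ (⟨1, T.one_mem, rfl⟩ : x ∈ N))) hx
    · rw [h]; exact Subgroup.mem_top y
  have hinj : ∀ f ∈ T, f ≠ 0 → ∀ m : M, f (Additive.ofMul m) = 0 → m = 1 := by
    intro f hf hf0 m hm
    let Kf : Subgroup M :=
      { carrier := {m | f (Additive.ofMul m) = 0}
        one_mem' := map_zero f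
        mul_mem' := fun {a b} (ha : f _ = 0) (hb : f _ = 0) => by
          show f (Additive.ofMul (a * b)) = 0
          rw [ofMul_mul, map_add, ha, hb, add_zero]
        inv_mem' := fun {a} (ha : f _ = 0) => by
          show f (Additive.ofMul a⁻¹) = 0
          rw [inv_eq_of_mul_eq_one_right (hM2 a), ha] }
    rcases hmin Kf (fun g m (hm : f _ = 0) => by
      show f (Additive.ofMul (g • m)) = 0
      rw [← hρ]
      show (f * ρ g) _ = 0
      rw [hc f hf _ (hρT g)]
      show ρ g (f _) = 0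
      rw [hm, map_zero]) with h | h
    · exact Subgroup.mem_bot.1 (h ▸ (hm : m ∈ Kf))
    · exact absurd (AddMonoidHom.ext fun b => (h ▸ Subgroup.mem_top b.toMul : b.toMul ∈ Kf)) hf0
  let _ : CommRing T := { (inferInstance : Ring T) with mul_comm := fun a b => hcomm.1.1 a b }
  have : NoZeroDivisors T := ⟨fun {f f'} hff => by
    by_contra! hne
    refine hne.2 (Subtype.ext (AddMonoidHom.ext fun b => ?_))
    exact congrArg Additive.ofMul (hinj f f.2 (fun h => hne.1 (Subtype.ext h)) _
      (show (f : AddMonoid.End (Additive M)) ((f' : AddMonoid.End (Additive M)) b) = 0 from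
        DFunLike.congr_fun (congrArg Subtype.val hff) b))⟩
  have : Nontrivial T := ⟨⟨1, 0, fun h => one_ne_zero (congrArg Subtype.val h)⟩⟩
  have : IsDomain T := NoZeroDivisors.to_isDomain _
  have hinjρ : Function.Injective (fun g : K => (⟨ρ g, hρT g⟩ : T)) := fun g h e => by
    have h1 : g • x = h • x :=
      congrArg Additive.toMul (DFunLike.congr_fun (congrArg Subtype.val e) (Additive.ofMul x))
    rcases free (h⁻¹ * g) x (by rw [mul_smul, h1, inv_smul_smul]) with h2 | h2
    · exact (inv_mul_eq_one.1 h2).symm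
    · exact absurd h2 hx
  have ha0 : (⟨a, haT⟩ : T) ≠ 0 := fun h => hy (by
    have h' : a = 0 := congrArg Subtype.val h
    rw [h'] at hay
    exact (congrArg Additive.toMul hay).symm)
  have hroot : ∀ t : T, t ≠ 0 → t ^ Nat.card K = 1 := fun t ht => by
    refine mul_left_cancel₀ ht ?_
    rw [mul_one, ← pow_succ', hK]
    exact Subtype.ext ((SubmonoidClass.coe_pow _ _).trans (hq t t.2))
  have hsub : Finset.univ.image (fun g : K => (⟨ρ g, hρT g⟩ : T)) =
      (Polynomial.nthRoots (Nat.card K) (1 : T)).toFinset := by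
    refine Finset.eq_of_subset_of_card_le ?_ ?_
    · intro t ht
      obtain ⟨g, -, rfl⟩ := Finset.mem_image.1 ht
      rw [Multiset.mem_toFinset, Polynomial.mem_nthRoots Nat.card_pos]
      exact Subtype.ext (by rw [SubmonoidClass.coe_pow, ← map_pow, pow_card_eq_one', map_one]; rfl)
    · rw [Finset.card_image_of_injective _ hinjρ, Finset.card_univ, ← Nat.card_eq_fintype_card]
      exact (Multiset.toFinset_card_le _).trans (Polynomial.card_nthRoots _ _)
  have hmem : (⟨a, haT⟩ : T) ∈ (Polynomial.nthRoots (Nat.card K) (1 : T)).toFinset := by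
    rw [Multiset.mem_toFinset, Polynomial.mem_nthRoots Nat.card_pos]
    exact hroot _ ha0
  rw [← hsub] at hmem
  obtain ⟨g, -, hg⟩ := Finset.mem_image.1 hmem
  have hgx : g • x = y := by
    have hg' : ρ g = a := congrArg Subtype.val hg
    rw [← hg'] at hay
    exact congrArg Additive.toMul hay
  refine ⟨g, hgx, fun h hh => ?_⟩
  rcases free (g⁻¹ * h) x (by rw [mul_smul, hh, ← hgx, inv_smul_smul]) with h2 | h2
  · exact (inv_mul_eq_one.1 h2).symm
  · exact absurd h2 hx

end Cfsg.Agent.Lib.SuzukiTwo
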