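import Cfsg.Agent.Lib.SuzukiTwo.Regular
import Cfsg.Agent.S0065

/-!
2-groups with a commutative group of automorphisms which is simply transitive on the involutions.
-/

set_option autoImplicit false

namespace Cfsg.Agent.Lib.SuzukiTwo

open scoped commutatorElement

universe u v

variable {K : Type u} [CommGroup K]

/-- `K` acts simply transitively on the involutions of the 2-group `P`, which has more than one involution. -/
structure Data (K : Type u) (P : Type v) [CommGroup K] [Group P] [MulDistribMulAction K P] : Prop where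
  pgroup : IsPGroup 2 P
  trans : ∀ x y : P, x ≠ 1 → x * x = 1 → y ≠ 1 → y * y = 1 → ∃! g : K, g • x = y
  two : ∃ x y : P, x ≠ y ∧ x ≠ 1 ∧ x * x = 1 ∧ y ≠ 1 ∧ y * y = 1

/-- Invariance of a subgroup under `K`. -/
def Inv (K : Type u) {P : Type v} [CommGroup K] [Group P] [MulDistribMulAction K P] (N : Subgroup P) : Prop :=
  ∀ (g : K), ∀ x ∈ N, g • x ∈ N

/-- The central elements of order at most two. -/
def Omega (P : Type v) [Group P] : Subgroup P where
  carrier := {x | x ∈ Subgroup.center P ∧ x * x = 1}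
  one_mem' := ⟨one_mem _, one_mul 1⟩
  mul_mem' {a b} ha hb := ⟨mul_mem ha.1 hb.1, by
    rw [show a * b * (a * b) = a * (b * a) * b by group, Subgroup.mem_center_iff.1 ha.1 b,
      show a * (a * b) * b = a * a * (b * b) by group, ha.2, hb.2, one_mul]⟩
  inv_mem' {a} ha := ⟨inv_mem ha.1, by rw [← mul_inv_rev, ha.2, inv_one]⟩

variable {P : Type v} [Group P] [MulDistribMulAction K P]

/-- Restriction of the action to an invariant subgroup. -/
abbrev subAction (N : Subgroup P) (hN : Inv K N) : MulDistribMulAction K N where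
  smul g x := ⟨g • (x : P), hN g x x.2⟩
  one_smul x := Subtype.ext (one_smul K (x : P))
  mul_smul g h x := Subtype.ext (mul_smul g h (x : P))
  smul_mul g x y := Subtype.ext (smul_mul' g (x : P) y)
  smul_one g := Subtype.ext (smul_one g)

/-- The action induced on the quotient by an invariant normal subgroup. -/
abbrev quotAction (N : Subgroup P) [N.Normal] (hN : Inv K N) : MulDistribMulAction K (P ⧸ N) where
  smul g x := QuotientGroup.map N N (MulDistribMulAction.toMonoidHom P g) (fun a ha => hN g a ha) x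
  one_smul x := QuotientGroup.induction_on x fun a => congrArg QuotientGroup.mk (one_smul K a)
  mul_smul g h x := QuotientGroup.induction_on x fun a => congrArg QuotientGroup.mk (mul_smul g h a)
  smul_mul g x y := map_mul _ x y
  smul_one g := map_one _

theorem Inv.inf {A B : Subgroup P} (hA : Inv K A) (hB : Inv K B) : Inv K (A ⊓ B) :=
  fun g x hx => ⟨hA g x hx.1, hB g x hx.2⟩

theorem Inv.iff_map_le {A : Subgroup P} :
    Inv K A ↔ ∀ g : K, A.map (MulDistribMulAction.toMonoidHom P g) ≤ A :=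
  ⟨fun h g => by rintro _ ⟨x, hx, rfl⟩; exact h g x hx, fun h g x hx => h g ⟨x, hx, rfl⟩⟩

theorem Inv.sup {A B : Subgroup P} (hA : Inv K A) (hB : Inv K B) : Inv K (A ⊔ B) :=
  Inv.iff_map_le.2 fun g => by
    rw [Subgroup.map_sup]
    exact sup_le_sup (Inv.iff_map_le.1 hA g) (Inv.iff_map_le.1 hB g)

theorem Inv.top : Inv K (⊤ : Subgroup P) := fun _ _ _ => trivial

theorem inv_commutator : Inv K (commutator P) :=
  Inv.iff_map_le.2 fun g => by
    rw [commutator_def, Subgroup.map_commutator]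
    exact Subgroup.commutator_mono le_top le_top

theorem smul_mem_center (g : K) {z : P} (hz : z ∈ Subgroup.center P) : g • z ∈ Subgroup.center P :=
  Subgroup.mem_center_iff.2 fun u => by
    have h := congrArg (g • ·) (Subgroup.mem_center_iff.1 hz (g⁻¹ • u))
    simpa only [smul_mul', smul_inv_smul] using h

theorem inv_center : Inv K (Subgroup.center P) := fun g _ hz => smul_mem_center g hz

theorem inv_omega : Inv K (Omega P) := fun g x hx =>
  ⟨smul_mem_center g hx.1, by rw [← smul_mul', hx.2, smul_one]⟩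

namespace Data

variable [Finite P] (D : Data K P)
include D

theorem exists_involution {Q : Subgroup P} (hQ : Q ≠ ⊥) : ∃ z ∈ Q, z ≠ 1 ∧ z * z = 1 := by
  obtain ⟨n, hn⟩ := IsPGroup.iff_card.1 (D.pgroup.to_subgroup Q)
  have hn0 : n ≠ 0 := fun h => hQ (Subgroup.card_eq_one.1 (by rw [hn, h, pow_zero]))
  obtain ⟨z, hz⟩ := exists_prime_orderOf_dvd_card' (G := Q) 2 (hn ▸ dvd_pow_self 2 hn0)
  refine ⟨z, z.2, fun h => ?_, ?_⟩
  · rw [show z = 1 from Subtype.ext h, orderOf_one] at hz
    exact absurd hz (by norm_num)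
  · rw [← sq]
    exact congrArg Subtype.val (hz ▸ pow_orderOf_eq_one z : z ^ 2 = 1)

theorem nontrivial : Nontrivial P := by
  obtain ⟨x, y, hxy, -⟩ := D.two
  exact nontrivial_of_ne x y hxy

theorem mem_omega_iff {x : P} : x ∈ Omega P ↔ x * x = 1 := by
  refine ⟨fun h => h.2, fun hx => ⟨?_, hx⟩⟩
  rcases eq_or_ne x 1 with rfl | hx1
  · exact one_mem _
  have : Fact (Nat.Prime 2) := ⟨Nat.prime_two⟩
  have := D.nontrivial
  have hZ : Subgroup.center P ≠ ⊥ := by
    have := D.pgroup.center_nontrivial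
    exact (Subgroup.nontrivial_iff_ne_bot _).1 this
  obtain ⟨z, hz, hz1, hz2⟩ := D.exists_involution hZ
  obtain ⟨g, rfl, -⟩ := D.trans z x hz1 hz2 hx1 hx
  exact smul_mem_center g hz

theorem regular_omega : letI := subAction (K := K) (Omega P) inv_omega; Regular K (Omega P) := by
  intro x y hx hy
  obtain ⟨g, hg, hgu⟩ := D.trans x y (fun h => hx (Subtype.ext h)) x.2.2 (fun h => hy (Subtype.ext h)) y.2.2
  exact ⟨g, Subtype.ext hg, fun h hh => hgu h (congrArg Subtype.val hh)⟩

theorem four_le : 4 ≤ Nat.card (Omega P) := by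
  classical
  obtain ⟨x, y, hxy, hx1, hx, hy1, hy⟩ := D.two
  have hx' := D.mem_omega_iff.2 hx
  have hy' := D.mem_omega_iff.2 hy
  have h1 : x * y ≠ 1 := fun h => hxy ((eq_inv_of_mul_eq_one_left h).trans (inv_eq_of_mul_eq_one_right hy))
  let s : Finset (Omega P) := {1, ⟨x, hx'⟩, ⟨y, hy'⟩, ⟨x * y, mul_mem hx' hy'⟩}
  have hs : s.card = 4 := by
    refine Finset.card_eq_four.2 ⟨_, _, _, _, ?_, ?_, ?_, ?_, ?_, ?_, rfl⟩ <;>
      simp [Subtype.ext_iff, hxy, Ne.symm hx1, Ne.symm hy1, Ne.symm h1, hx1, hy1]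
  have := Fintype.ofFinite (Omega P)
  rw [Nat.card_eq_fintype_card, ← hs]
  exact Finset.card_le_univ s

theorem card_omega : Nat.card (Omega P) = Nat.card K + 1 := by
  classical
  obtain ⟨x, -, -, hx1, hx, -, -⟩ := D.two
  have hx' := D.mem_omega_iff.2 hx
  let f : Option K → Omega P := fun o => o.elim 1 fun g => ⟨g • x, inv_omega g x hx'⟩
  have hf : Function.Bijective f := by
    constructor
    · rintro (_ | g) (_ | h) e
      · rfl
      · exact absurd (congrArg Subtype.val e).symm (smul_ne_one h hx1)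
      · exact absurd (congrArg Subtype.val e) (smul_ne_one g hx1)
      · exact congrArg some ((D.trans x (h • x) hx1 hx (smul_ne_one h hx1) (inv_omega h x hx').2).unique
          (congrArg Subtype.val e) rfl)
    · intro y
      rcases eq_or_ne y 1 with rfl | hy
      · exact ⟨none, rfl⟩
      obtain ⟨g, hg, -⟩ := D.trans x y hx1 hx (fun h => hy (Subtype.ext h)) y.2.2
      exact ⟨some g, Subtype.ext hg⟩
  have : Finite K := Finite.of_injective (fun g => f (some g)) (fun a b h => Option.some_inj.1 (hf.1 h))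
  rw [← Nat.card_congr (Equiv.ofBijective f hf)]
  exact Finite.card_option

theorem finite_group : Finite K := by
  have h := D.card_omega
  have h4 := D.four_le
  exact Nat.finite_of_card_ne_zero (by omega)

theorem exists_pow : ∃ n, 2 ≤ n ∧ Nat.card K + 1 = 2 ^ n := by
  have : Fact (Nat.Prime 2) := ⟨Nat.prime_two⟩
  obtain ⟨n, hn⟩ := IsPGroup.iff_card.1 (D.pgroup.to_subgroup (Omega P))
  refine ⟨n, ?_, D.card_omega ▸ hn⟩
  by_contra h
  have h4 := D.four_le
  rw [hn] at h4
  exact absurd (h4.trans (Nat.pow_le_pow_right (by norm_num) (show n ≤ 1 by omega))) (by norm_num)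

theorem exists_ne : ∃ g : K, g ≠ 1 := by
  have := D.finite_group
  have h := D.card_omega
  have h4 := D.four_le
  have : Nontrivial K := Finite.one_lt_card_iff_nontrivial.1 (by omega)
  exact _root_.exists_ne 1

/-- `K` is fixed-point-free. -/
theorem free {g : K} {x : P} (h : g • x = x) : g = 1 ∨ x = 1 := by
  by_cases hx : x = 1
  · exact Or.inr hx
  left
  obtain ⟨m, hm⟩ := IsPGroup.iff_orderOf.1 D.pgroup x
  rcases m with _ | m
  · exact absurd (orderOf_eq_one_iff.1 (hm.trans (pow_zero 2))) hx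
  set y := x ^ 2 ^ m
  have hy2 : y * y = 1 := by
    rw [← pow_add, ← two_mul, ← pow_succ', ← hm, pow_orderOf_eq_one]
  have hy1 : y ≠ 1 := pow_ne_one_of_lt_orderOf (by positivity) (hm ▸ Nat.pow_lt_pow_right (by norm_num) (by omega))
  have hgy : g • y = y := by rw [smul_pow', h]
  exact (D.trans y y hy1 hy2 hy1 hy2).unique hgy (one_smul K y)

/-- Fixed-point-freeness modulo an invariant subgroup. -/
theorem mem_of_inv_mul_smul_mem {N : Subgroup P} (hN : Inv K N) {g : K} (hg : g ≠ 1) {x : P}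
    (h : x⁻¹ * g • x ∈ N) : x ∈ N := by
  let f : N → N := fun u => ⟨(u : P)⁻¹ * g • (u : P), mul_mem (inv_mem u.2) (hN g u u.2)⟩
  have hf : Function.Injective f := fun u w e => by
    have h1 : g • ((w : P) * (u : P)⁻¹) = w * (u : P)⁻¹ := by
      have e' : (u : P)⁻¹ * g • (u : P) = (w : P)⁻¹ * g • (w : P) := congrArg Subtype.val e
      rw [smul_mul', smul_inv', show g • (w : P) = w * ((u : P)⁻¹ * g • (u : P)) by rw [e', mul_inv_cancel_left]]
      group
    exact Subtype.ext (mul_inv_eq_one.1 ((D.free h1).resolve_left hg)).symm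
  obtain ⟨u, hu⟩ := (Finite.injective_iff_surjective.1 hf) ⟨_, h⟩
  have hu' : (u : P)⁻¹ * g • (u : P) = x⁻¹ * g • x := congrArg Subtype.val hu
  have h1 : g • (x * (u : P)⁻¹) = x * (u : P)⁻¹ := by
    rw [smul_mul', smul_inv', show g • x = x * ((u : P)⁻¹ * g • (u : P)) by rw [hu', mul_inv_cancel_left]]
    group
  rw [mul_inv_eq_one.1 ((D.free h1).resolve_left hg)]
  exact u.2

/-- A nontrivial invariant subgroup contains all involutions. -/
theorem omega_le {N : Subgroup P} (hN : Inv K N) (hne : N ≠ ⊥) : Omega P ≤ N := by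
  intro x hx
  rcases eq_or_ne x 1 with rfl | hx1
  · exact one_mem _
  obtain ⟨z, hz, hz1, hz2⟩ := D.exists_involution hne
  obtain ⟨g, rfl, -⟩ := D.trans z x hz1 hz2 hx1 hx.2
  exact hN g z hz

theorem omega_ne_bot : Omega P ≠ ⊥ := fun h => by
  have := D.four_le
  rw [h, Subgroup.card_bot] at this
  omega

/-- Minimal invariant elementary sections are regular, and biadditive equivariant maps on them and the
involutions have no zero divisors. -/
theorem section_no_zero_divisors {A X : Subgroup P} (hA : Inv K A) (hX : Inv K X) [A.Normal] (hAX : A ≤ X)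
    (hsq : ∀ x ∈ X, x * x ∈ A) (hcomm : ∀ x ∈ X, ∀ y ∈ X, ⁅x, y⁆ ∈ A)
    (hmin : ∀ Y : Subgroup P, Inv K Y → A ≤ Y → Y ≤ X → Y = A ∨ Y = X)
    (f : P → P → P) (hf : ∀ x ∈ X, ∀ v ∈ Omega P, f x v ∈ Omega P)
    (hfl : ∀ x ∈ X, ∀ y ∈ X, ∀ v ∈ Omega P, f (x * y) v = f x v * f y v)
    (hfr : ∀ x ∈ X, ∀ v ∈ Omega P, ∀ w ∈ Omega P, f x (v * w) = f x v * f x w)
    (hfA : ∀ a ∈ A, ∀ v ∈ Omega P, f a v = 1)
    (hfe : ∀ (g : K), ∀ x ∈ X, ∀ v ∈ Omega P, f (g • x) (g • v) = g • f x v)
    {x₀ v₀ : P} (hx₀ : x₀ ∈ X) (hx₀A : x₀ ∉ A) (hv₀ : v₀ ∈ Omega P) (hv₀1 : v₀ ≠ 1) (h₀ : f x₀ v₀ = 1) :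
    ∀ x ∈ X, ∀ v ∈ Omega P, f x v = 1 := by
  classical
  let A' := A.subgroupOf X
  have hA'n : A'.Normal := inferInstance
  letI actX := subAction X hX
  have hA' : Inv K A' := fun g a ha => hA g _ ha
  letI : CommGroup (X ⧸ A') :=
    { (inferInstance : Group (X ⧸ A')) with
      mul_comm := fun a b => QuotientGroup.induction_on a fun a => QuotientGroup.induction_on b fun b =>
        commutatorElement_eq_one_iff_mul_comm.1 ((QuotientGroup.eq_one_iff ⁅a, b⁆).2 (hcomm _ a.2 _ b.2)) }
  letI : CommGroup (Omega P) :=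
    { (inferInstance : Group (Omega P)) with
      mul_comm := fun a b => Subtype.ext (Subgroup.mem_center_iff.1 b.2.1 a) }
  letI actM := quotAction A' hA'
  letI actV : MulDistribMulAction K (Omega P) := subAction (Omega P) inv_omega
  have hM2 : ∀ a : X ⧸ A', a * a = 1 := fun a => QuotientGroup.induction_on a fun a =>
    (QuotientGroup.eq_one_iff (a * a)).2 (hsq _ a.2)
  have hfree : ∀ (g : K) (a : X ⧸ A'), g • a = a → g = 1 ∨ a = 1 := by
    intro g a
    refine QuotientGroup.induction_on a fun a h => ?_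
    by_cases hg : g = 1
    · exact Or.inl hg
    refine Or.inr ((QuotientGroup.eq_one_iff a).2 (D.mem_of_inv_mul_smul_mem hA hg ?_))
    exact (QuotientGroup.eq.1 h.symm : a⁻¹ * g • a ∈ A')
  have hminM : ∀ N : Subgroup (X ⧸ A'), (∀ (g : K), ∀ a ∈ N, g • a ∈ N) → N = ⊥ ∨ N = ⊤ := by
    intro N hN
    let Y := (N.comap (QuotientGroup.mk' A')).map X.subtype
    have hYi : Inv K Y := by
      rintro g _ ⟨a, ha, rfl⟩
      exact ⟨⟨g • (a : P), hX g a a.2⟩, hN g _ ha, rfl⟩
    have hAY : A ≤ Y := fun a ha => ⟨⟨a, hAX ha⟩, by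
      show QuotientGroup.mk' A' _ ∈ N
      rw [QuotientGroup.mk'_apply, (QuotientGroup.eq_one_iff _).2 (show (⟨a, hAX ha⟩ : X) ∈ A' from ha)]
      exact one_mem _, rfl⟩
    rcases hmin Y hYi hAY (Subgroup.map_subtype_le _) with h | h
    · left
      refine (Subgroup.eq_bot_iff_forall _).2 fun a => QuotientGroup.induction_on a fun a ha => ?_
      exact (QuotientGroup.eq_one_iff a).2 (show (a : P) ∈ A from h ▸ ⟨a, ha, rfl⟩)
    · right
      refine eq_top_iff.2 fun a _ => QuotientGroup.induction_on a fun a => ?_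
      have haY : (a : P) ∈ Y := by rw [h]; exact a.2
      obtain ⟨b, hb, hba⟩ := haY
      rw [← show b = a from Subtype.ext hba]
      exact hb
  obtain ⟨n, -, hn⟩ := D.exists_pow
  have := D.finite_group
  have hM : Regular K (X ⧸ A') := regular_of_minimal hn hM2 hfree hminM
  let B0 : X →* (Omega P →* Omega P) := MonoidHom.mk'
    (fun x => MonoidHom.mk' (fun v => ⟨f x v, hf x x.2 v v.2⟩) fun v w => Subtype.ext (hfr x x.2 v v.2 w w.2))
    fun x y => MonoidHom.ext fun v => Subtype.ext (hfl x x.2 y y.2 v v.2)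
  let B : (X ⧸ A') →* (Omega P →* Omega P) := QuotientGroup.lift A' B0 fun a ha =>
    MonoidHom.ext fun v => Subtype.ext (hfA a ha v v.2)
  have hB : ∀ (g : K) a v, B (g • a) (g • v) = g • B a v := fun g a v =>
    QuotientGroup.induction_on a fun a => Subtype.ext (hfe g a a.2 v v.2)
  have hB1 : B = 1 := no_zero_divisors hM D.regular_omega hM2 (fun v => Subtype.ext v.2.2) D.four_le B hB
    (x := ((⟨x₀, hx₀⟩ : X) : X ⧸ A')) (v := ⟨v₀, hv₀⟩)
    (fun h => hx₀A ((QuotientGroup.eq_one_iff (⟨x₀, hx₀⟩ : X)).1 h)) (fun h => hv₀1 (congrArg Subtype.val h))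
    (Subtype.ext h₀)
  exact fun x hx v hv => congrArg Subtype.val
    (show B0 ⟨x, hx⟩ ⟨v, hv⟩ = 1 from DFunLike.congr_fun (DFunLike.congr_fun hB1 ((⟨x, hx⟩ : X) : X ⧸ A')) ⟨v, hv⟩)

end Data

end Cfsg.Agent.Lib.SuzukiTwo
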