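import Cfsg.Prelude.Def_LieRecognition
import Cfsg.Agent.Lib.SuzukiTwo.Higman
import Cfsg.Agent.Lib.SuzukiTwo.Degree

/-!
Orders and exponent of a Suzuki 2-group.
-/

set_option autoImplicit false

namespace Cfsg.Agent.Lib.SuzukiTwo

open scoped commutatorElement

universe u v

theorem zmod_two_eq_one : ∀ z : ZMod 2, z ≠ 0 → z = 1 := by decide

theorem exists_data {P : Type v} [Group P] [Finite P] (hP : Cfsg.IsSuzukiTwoGroup P) :
    ∃ (K : Type v) (_ : CommGroup K) (_ : MulDistribMulAction K P), Data K P := by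
  obtain ⟨-, hp, -, htwo, K, hK, htr⟩ := hP
  letI : CommGroup K := IsCyclic.commGroup
  exact ⟨K, inferInstance, inferInstance, hp, fun x y hx hx2 hy hy2 => htr x y hx hx2 hy hy2, htwo⟩

variable {K : Type u} [CommGroup K] {P : Type v} [Group P] [MulDistribMulAction K P]

namespace Data

variable [Finite P] (D : Data K P)
include D

theorem commutator_mem (hne : ∃ x y : P, x * y ≠ y * x) (x y : P) : ⁅x, y⁆ ∈ Omega P := by
  have h := (D.higman hne).1
  rw [show ⁅x, y⁆ = (x * x) * ((x⁻¹ * y) * (x⁻¹ * y)) * (y⁻¹ * y⁻¹) by simp only [commutatorElement_def]; group]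
  exact mul_mem (mul_mem (h _) (h _)) (h _)

theorem omega_normal : (Omega P).Normal :=
  ⟨fun a ha g => by rw [Subgroup.mem_center_iff.1 ha.1 g, mul_inv_cancel_right]; exact ha⟩

theorem sq_mul (hne : ∃ x y : P, x * y ≠ y * x) (x y : P) :
    x * y * (x * y) = x * x * (y * y) * ⁅y, x⁆ := by
  rw [mul_assoc (x * x), Subgroup.mem_center_iff.1 (D.commutator_mem hne y x).1 (y * y),
    show x * y * (x * y) = x * (⁅y, x⁆ * x) * (y * y) by simp only [commutatorElement_def]; group,
    ← Subgroup.mem_center_iff.1 (D.commutator_mem hne y x).1 x]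
  group

theorem exponent_eq (hne : ∃ x y : P, x * y ≠ y * x) : Monoid.exponent P = 4 := by
  have h4 : ∀ x : P, x ^ 4 = 1 := fun x => by
    rw [show (4 : ℕ) = 2 ^ 2 from rfl, ← mul_self_sq]
    exact ((D.higman hne).1 x).2
  obtain ⟨x, hx⟩ : ∃ x : P, x * x ≠ 1 := by
    by_contra! h
    obtain ⟨a, b, hab⟩ := hne
    exact hab (Subgroup.mem_center_iff.1 (D.mem_omega_iff.2 (h b)).1 a)
  refine Nat.dvd_antisymm (Monoid.exponent_dvd_of_forall_pow_eq_one h4) ?_
  have ho : orderOf x = 2 ^ (1 + 1) := by
    have : Fact (Nat.Prime 2) := ⟨Nat.prime_two⟩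
    exact orderOf_eq_prime_pow (by rwa [pow_one, sq]) (h4 x)
  rw [show 4 = orderOf x from ho.symm]
  exact Monoid.order_dvd_exponent x

/-- The order is the square or the cube of the number of central elements. -/
theorem card_cases (hne : ∃ x y : P, x * y ≠ y * x) :
    Nat.card P = Nat.card (Omega P) ^ 2 ∨ Nat.card P = Nat.card (Omega P) ^ 3 := by
  classical
  have : Fact (Nat.Prime 2) := ⟨Nat.prime_two⟩
  have hsq := (D.higman hne).1
  have := D.omega_normal
  have := D.finite_group
  let act := quotAction (K := K) (Omega P) inv_omega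
  letI : CommGroup (P ⧸ Omega P) :=
    { (inferInstance : Group (P ⧸ Omega P)) with
      mul_comm := fun a b => QuotientGroup.induction_on a fun a => QuotientGroup.induction_on b fun b =>
        commutatorElement_eq_one_iff_mul_comm.1 ((QuotientGroup.eq_one_iff ⁅a, b⁆).2 (D.commutator_mem hne a b)) }
  letI : CommGroup (Omega P) :=
    { (inferInstance : Group (Omega P)) with
      mul_comm := fun a b => Subtype.ext (Subgroup.mem_center_iff.1 b.2.1 a) }
  have hM2 : ∀ a : P ⧸ Omega P, a * a = 1 := fun a => QuotientGroup.induction_on a fun a =>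
    (QuotientGroup.eq_one_iff (a * a)).2 (hsq a)
  obtain ⟨m, hm⟩ := IsPGroup.iff_card.1 (D.pgroup.to_quotient (Omega P))
  obtain ⟨n, hn2, hn⟩ := D.exists_pow
  have hPcard : Nat.card P = 2 ^ n * 2 ^ m := by
    rw [(Omega P).card_eq_card_quotient_mul_card_subgroup, hm, D.card_omega, hn, mul_comm]
  -- the number of central elements divides
  have hnm : n ∣ m := by
    have := Fintype.ofFinite K
    have := Fintype.ofFinite (P ⧸ Omega P)
    have := Fintype.ofFinite (Quotient (MulAction.orbitRel K (P ⧸ Omega P)))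
    have hb := MulAction.sum_card_fixedBy_eq_card_orbits_mul_card_group K (P ⧸ Omega P)
    rw [← Finset.add_sum_erase _ _ (Finset.mem_univ (1 : K))] at hb
    have hfix : ∀ g ∈ Finset.univ.erase (1 : K),
        Fintype.card (MulAction.fixedBy (P ⧸ Omega P) g) = 1 := by
      intro g hg
      refine Fintype.card_eq_one_iff.2 ⟨⟨1, smul_one g⟩, fun ⟨a, ha⟩ => Subtype.ext ?_⟩
      induction a using QuotientGroup.induction_on with
      | H a =>
        exact (QuotientGroup.eq_one_iff a).2 (D.mem_of_inv_mul_smul_mem inv_omega (Finset.mem_erase.1 hg).1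
          (QuotientGroup.eq.1 (show ((g • a : P) : P ⧸ Omega P) = a from ha).symm))
    rw [Finset.sum_congr rfl hfix, Finset.sum_const, smul_eq_mul, mul_one, Finset.card_erase_of_mem (Finset.mem_univ _),
      Finset.card_univ] at hb
    have h1 : Fintype.card (MulAction.fixedBy (P ⧸ Omega P) (1 : K)) = 2 ^ m := by
      rw [← hm, ← Nat.card_eq_fintype_card]
      exact Nat.card_congr (Equiv.subtypeUnivEquiv fun a => one_smul K a)
    rw [h1, ← Nat.card_eq_fintype_card (α := K)] at hb
    have hdvd : (2 ^ n - 1) ∣ (2 ^ m - 1) := by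
      rw [← hn, Nat.add_sub_cancel]
      have h2 : Nat.card K ∣ 2 ^ m + (Nat.card K - 1) := ⟨_, hb.trans (mul_comm _ _)⟩
      rw [show 2 ^ m + (Nat.card K - 1) = (2 ^ m - 1) + Nat.card K by
        have := Nat.one_le_two_pow (n := m); have := Nat.card_pos (α := K); omega] at h2
      exact (Nat.dvd_add_left dvd_rfl).1 h2
    have hg := Nat.gcd_eq_left hdvd
    rw [Nat.pow_sub_one_gcd_pow_sub_one] at hg
    have h2 : 2 ^ Nat.gcd n m = 2 ^ n := by
      have := Nat.one_le_two_pow (n := Nat.gcd n m); have := Nat.one_le_two_pow (n := n); omega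
    rw [← Nat.pow_right_injective (le_refl 2) h2]
    exact Nat.gcd_dvd_right n m
  -- the squaring map
  have hm0 : m ≠ 0 := fun h => by
    rw [h, pow_zero, ← Subgroup.index_eq_card, Subgroup.index_eq_one] at hm
    obtain ⟨a, b, hab⟩ := hne
    exact hab (Subgroup.mem_center_iff.1 (show b ∈ Omega P from hm ▸ Subgroup.mem_top b).1 a)
  let Q : P ⧸ Omega P → Omega P := Quotient.lift (fun a : P => (⟨a * a, hsq a⟩ : Omega P)) fun a b hab => by
    obtain ⟨w, hw, rfl⟩ : ∃ w ∈ Omega P, a * w = b := ⟨a⁻¹ * b, QuotientGroup.leftRel_apply.1 hab, by group⟩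
    apply Subtype.ext
    show a * a = a * w * (a * w)
    rw [D.sq_mul hne, hw.2, mul_one, central_commutator hw.1, mul_one]
  have hQ : ∀ a : P, ((Q (a : P ⧸ Omega P) : Omega P) : P) = a * a := fun a => rfl
  let _ : Module (ZMod 2) (Additive (Omega P)) :=
    AddCommGroup.zmodModule fun a => by
      rw [two_nsmul]
      exact congrArg Additive.ofMul (Subtype.ext a.toMul.2.2 : a.toMul * a.toMul = 1)
  let e := (Module.finBasis (ZMod 2) (Additive (Omega P))).equivFun
  set n' := Module.finrank (ZMod 2) (Additive (Omega P))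
  have hn' : n' = n := by
    have h := Nat.card_congr (Additive.ofMul.trans e.toEquiv)
    rw [D.card_omega, hn, Nat.card_fun, Nat.card_zmod, Nat.card_fin] at h
    exact (Nat.pow_right_injective (le_refl 2) h).symm
  have hdeg : ∀ l, HasDegree 2 fun a : P ⧸ Omega P => 1 + e (Additive.ofMul (Q a)) l := by
    intro l
    have hbase : HasDegree 2 fun a : P ⧸ Omega P => e (Additive.ofMul (Q a)) l := by
      intro a b x
      induction a using QuotientGroup.induction_on with
      | H a =>
      induction b using QuotientGroup.induction_on with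
      | H b =>
      induction x using QuotientGroup.induction_on with
      | H x =>
      let g : P → ZMod 2 := fun u => e (Additive.ofMul (Q (u : P ⧸ Omega P))) l
      let c : P → P → ZMod 2 := fun u w => e (Additive.ofMul (⟨⁅u, w⁆, D.commutator_mem hne u w⟩ : Omega P)) l
      have hg : ∀ u w : P, g (u * w) = g u + g w + c w u := fun u w => by
        have h : Q ((u * w : P) : P ⧸ Omega P) = Q (u : P ⧸ Omega P) * Q (w : P ⧸ Omega P) *
            ⟨⁅w, u⁆, D.commutator_mem hne w u⟩ := Subtype.ext (D.sq_mul hne u w)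
        simp only [g, c, h, ofMul_mul, map_add, Pi.add_apply]
      have hc : ∀ u u' w : P, c w (u * u') = c w u + c w u' := fun u u' w => by
        have h : (⟨⁅w, u * u'⁆, D.commutator_mem hne w _⟩ : Omega P) =
            ⟨⁅w, u⁆, D.commutator_mem hne w u⟩ * ⟨⁅w, u'⁆, D.commutator_mem hne w u'⟩ := Subtype.ext (by
          show ⁅w, u * u'⁆ = ⁅w, u⁆ * ⁅w, u'⁆
          rw [show ⁅w, u * u'⁆ = ⁅w, u⁆ * (u * ⁅w, u'⁆ * u⁻¹) by simp only [commutatorElement_def]; group,
            Subgroup.mem_center_iff.1 (D.commutator_mem hne w u').1 u, mul_inv_cancel_right])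
        simp only [c, h, ofMul_mul, map_add, Pi.add_apply]
      have hval : ∀ x : P, g (x * b * a) + g (x * b) + (g (x * a) + g x) = c a b := fun x => by
        rw [hg (x * b) a, hg x b, hg x a, hc x b a]
        linear_combination (g x * 2 + g b + g a + c b x + c a x) * (CharTwo.two_eq_zero (R := ZMod 2))
      exact (hval x).trans (hval 1).symm
    exact (HasDegree.const 2 1).add hbase
  have hprod := HasDegree.prod Finset.univ 2 _ fun l _ => hdeg l
  rw [Finset.card_univ, Fintype.card_fin] at hprod
  have hle : m ≤ n * 2 := by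
    by_contra hlt
    have := Fintype.ofFinite (P ⧸ Omega P)
    have h0 := hprod.sum_eq_zero hM2 hm (by omega)
    rw [Fintype.sum_eq_single (1 : P ⧸ Omega P) fun a ha => ?_] at h0
    · have h1 : Q 1 = 1 := Subtype.ext (one_mul 1)
      simp only [h1, ofMul_one, map_zero, Pi.zero_apply, add_zero, Finset.prod_const_one] at h0
      exact one_ne_zero h0
    induction a using QuotientGroup.induction_on with
    | H a =>
    have hne' : e (Additive.ofMul (Q (a : P ⧸ Omega P))) ≠ 0 := fun h => ha ((QuotientGroup.eq_one_iff a).2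
      (D.mem_omega_iff.2 (congrArg (fun u : Omega P => (u : P)) (ofMul_eq_zero.1 (e.map_eq_zero_iff.1 h)))))
    obtain ⟨l, hl⟩ := Function.ne_iff.1 hne'
    refine Finset.prod_eq_zero (Finset.mem_univ l) ?_
    rw [show e (Additive.ofMul (Q (a : P ⧸ Omega P))) l = 1 from
      zmod_two_eq_one _ hl]
    rfl
  obtain ⟨t, rfl⟩ := hnm
  have ht : t = 1 ∨ t = 2 := by
    have h1 : t ≠ 0 := fun h => hm0 (by rw [h, mul_zero])
    have h2 : t ≤ 2 := Nat.le_of_mul_le_mul_left hle (by omega)
    omega
  rw [hPcard, D.card_omega, hn]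
  rcases ht with rfl | rfl
  · left; ring
  · right; ring

end Data

end Cfsg.Agent.Lib.SuzukiTwo
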